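import Groth.Agent.SmLocalST.SmoothField
import Groth.Agent.SerreReg.Descent
import Groth.Agent.S0389
import Groth.Prelude.Def_EGA4b
import Mathlib.RingTheory.Smooth.StandardSmoothOfFree
import Mathlib.RingTheory.Smooth.Locus
import Mathlib.RingTheory.RingHom.StandardSmooth
import Mathlib.RingTheory.Flat.FaithfullyFlat.Basic

/-!
# Smooth algebras over regular rings, and the J-0 property along extensions
-/

set_option autoImplicit false
set_option linter.style.haveILetI false
universe u

open CategoryTheory AlgebraicGeometry
open scoped TensorProduct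

namespace Groth.Agent.RegLocus

theorem of_stalk (R : CommRingCat.{u}) (x : Spec R) (h : IsRegularLocalRing ((Spec R).presheaf.stalk x)) :
    IsRegularLocalRing (Localization.AtPrime x.asIdeal) := by
  have : IsLocalization.AtPrime ((Spec.structureSheaf R).presheaf.stalk x) x.asIdeal := inferInstance
  have : IsRegularLocalRing ((Spec.structureSheaf R).presheaf.stalk x) := h
  exact IsRegularLocalRing.of_ringEquiv (IsLocalization.algEquiv x.asIdeal.primeCompl
    ((Spec.structureSheaf R).presheaf.stalk x) (Localization.AtPrime x.asIdeal)).toRingEquiv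

theorem isRegularRing_of_etale (P B : Type u) [CommRing P] [CommRing B] [IsRegularRing P] [Algebra P B]
    [Algebra.Etale P B] : IsRegularRing B := by
  haveI : IsNoetherianRing B := Algebra.FiniteType.isNoetherianRing P B
  refine isRegularRing_iff.mpr fun Q hQ => ?_
  let η := Spec.map (CommRingCat.ofHom (algebraMap P B))
  haveI : Etale η := by
    rw [HasRingHomProperty.Spec_iff (P := @Etale)]
    exact RingHom.etale_algebraMap.mpr inferInstance
  haveI : IsLocallyNoetherian (Spec (CommRingCat.of B)) := inferInstance
  let x : Spec (CommRingCat.of B) := ⟨Q, hQ⟩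
  exact of_stalk (CommRingCat.of B) x (SmLocalST.isRegularLocalRing_stalk_of_etale η x (SmLocalST.isRegularLocalRing_stalk_spec _ _))

/-- A regular localization gives regular points. -/
theorem isRegularLocalRing_of_isLocalization {S T : Type u} [CommRing S] [CommRing T] [Algebra S T] (M : Submonoid S)
    [IsLocalization M T] [IsRegularRing T] (Q : Ideal S) [Q.IsPrime] (h : Disjoint (M : Set S) (Q : Set S)) :
    IsRegularLocalRing (Localization.AtPrime Q) := by
  let P := Q.map (algebraMap S T)
  haveI : P.IsPrime := IsLocalization.isPrime_of_isPrime_disjoint M _ Q inferInstance h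
  haveI := IsLocalization.isLocalization_isLocalization_atPrime_isLocalization M (Localization.AtPrime P) P
  have hP : P.comap (algebraMap S T) = Q := IsLocalization.comap_map_of_isPrime_disjoint M _ inferInstance h
  haveI : IsLocalization Q.primeCompl (Localization.AtPrime P) := by
    rw [show Q.primeCompl = (P.comap (algebraMap S T)).primeCompl from
      Submonoid.ext fun a => (not_congr (SetLike.ext_iff.mp hP a)).symm]
    infer_instance
  exact IsRegularLocalRing.of_ringEquiv
    (IsLocalization.algEquiv Q.primeCompl (Localization.AtPrime P) (Localization.AtPrime Q)).toRingEquiv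

/-- A localization at regular points only is a regular ring. -/
theorem isRegularRing_of_points {S T : Type u} [CommRing S] [IsNoetherianRing S] [CommRing T] [Algebra S T]
    (M : Submonoid S) [IsLocalization M T]
    (h : ∀ Q : PrimeSpectrum S, Disjoint (M : Set S) (Q.asIdeal : Set S) → Q ∈ EGA4.regLocus S) : IsRegularRing T := by
  haveI : IsNoetherianRing T := IsLocalization.isNoetherianRing M T inferInstance
  refine isRegularRing_iff.mpr fun P hP => ?_
  haveI := IsLocalization.isLocalization_isLocalization_atPrime_isLocalization M (Localization.AtPrime P) P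
  haveI : IsRegularLocalRing (Localization.AtPrime (P.comap (algebraMap S T))) :=
    h ⟨P.comap (algebraMap S T), inferInstance⟩ ((IsLocalization.isPrime_iff_isPrime_disjoint M T P).mp hP).2
  exact IsRegularLocalRing.of_ringEquiv (IsLocalization.algEquiv (P.comap (algebraMap S T)).primeCompl
    (Localization.AtPrime (P.comap (algebraMap S T))) (Localization.AtPrime P)).toRingEquiv

theorem isRegularRing_away {S : Type u} [CommRing S] [IsNoetherianRing S] (f : S)
    (h : ∀ Q : PrimeSpectrum S, f ∉ Q.asIdeal → Q ∈ EGA4.regLocus S) : IsRegularRing (Localization.Away f) :=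
  isRegularRing_of_points (Submonoid.powers f) fun Q hd =>
    h Q fun hf => Set.disjoint_left.mp hd (Submonoid.mem_powers f) hf

theorem mem_regLocus_away {S : Type u} [CommRing S] (f : S) [IsRegularRing (Localization.Away f)]
    (Q : PrimeSpectrum S) (hf : f ∉ Q.asIdeal) : Q ∈ EGA4.regLocus S :=
  isRegularLocalRing_of_isLocalization (T := Localization.Away f) (Submonoid.powers f) Q.asIdeal
    ((Ideal.disjoint_powers_iff_notMem f (Q.2.isRadical)).mpr hf)

/-- Smooth algebras over regular rings are regular. -/
theorem isRegularRing_of_smooth (R S : Type u) [CommRing R] [CommRing S] [IsRegularRing R] [Algebra R S]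
    [Algebra.Smooth R S] : IsRegularRing S := by
  haveI : IsNoetherianRing S := Algebra.FiniteType.isNoetherianRing R S
  refine isRegularRing_iff.mpr fun Q hQ => ?_
  obtain ⟨f, hf, hstd⟩ := Algebra.IsSmoothAt.exists_notMem_isStandardSmooth (R := R) Q
  obtain ⟨n, g, -, hg⟩ := RingHom.IsStandardSmooth.exists_etale_mvPolynomial
    (f := algebraMap R (Localization.Away f)) (RingHom.isStandardSmooth_algebraMap.mpr hstd)
  letI := g.toAlgebra
  haveI : Algebra.Etale (MvPolynomial (Fin n) R) (Localization.Away f) := hg
  haveI := isRegularRing_of_etale (MvPolynomial (Fin n) R) (Localization.Away f)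
  exact mem_regLocus_away f ⟨Q, hQ⟩ hf

/-- In a domain, a nonempty open set contains a nonempty basic open set. -/
theorem exists_ne_zero_of_open {S : Type u} [CommRing S] {U R : Set (PrimeSpectrum S)}
    (hU : IsOpen U) (hne : U.Nonempty) (hR : U ⊆ R) :
    ∃ f : S, f ≠ 0 ∧ ∀ Q : PrimeSpectrum S, f ∉ Q.asIdeal → Q ∈ R := by
  obtain ⟨u, hu⟩ := hne
  obtain ⟨_, ⟨f, rfl⟩, hf, hfU⟩ := PrimeSpectrum.isTopologicalBasis_basic_opens.exists_subset_of_mem_open hu hU
  exact ⟨f, fun h0 => hf (h0 ▸ zero_mem _), fun Q hQ => hR (hfU hQ)⟩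

theorem exists_open_of_ne_zero {S : Type u} [CommRing S] [IsDomain S] {f : S} (hf : f ≠ 0) {R : Set (PrimeSpectrum S)}
    (hR : ∀ Q : PrimeSpectrum S, f ∉ Q.asIdeal → Q ∈ R) :
    ∃ U : Set (PrimeSpectrum S), IsOpen U ∧ U.Nonempty ∧ U ⊆ R :=
  ⟨_, (PrimeSpectrum.basicOpen f).isOpen, ⟨⟨⊥, Ideal.isPrime_bot⟩, hf⟩, fun Q hQ => hR Q hQ⟩

attribute [local instance] Algebra.TensorProduct.rightAlgebra in
/-- J-0 descends along injective finite type maps of domains. -/
theorem exists_regular_of_finiteType {R S : Type u} [CommRing R] [IsDomain R] [IsNoetherianRing R] [CommRing S]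
    [IsDomain S] [Algebra R S] [Algebra.FiniteType R S] (hinj : Function.Injective (algebraMap R S)) {f : S} (hf : f ≠ 0)
    (hS : ∀ Q : PrimeSpectrum S, f ∉ Q.asIdeal → Q ∈ EGA4.regLocus S) :
    ∃ a : R, a ≠ 0 ∧ ∀ Q : PrimeSpectrum R, a ∉ Q.asIdeal → Q ∈ EGA4.regLocus R := by
  haveI : IsNoetherianRing S := Algebra.FiniteType.isNoetherianRing R S
  let S' := Localization.Away f
  haveI : IsRegularRing S' := isRegularRing_away f hS
  haveI : Algebra.FiniteType R S' := Algebra.FiniteType.trans (S := S) inferInstance
    (Algebra.FiniteType.of_finitePresentation (R := S) (A := S'))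
  obtain ⟨a, ha, hfree, -⟩ := S0389.result (R := R) (S := S') (M := S')
  let T := Localization.Away a ⊗[R] S'
  haveI : IsRegularRing T := isRegularRing_of_points (Algebra.algebraMapSubmonoid S' (Submonoid.powers a))
    fun Q _ => IsRegularRing.isRegularLocalRing_localization Q.asIdeal
  haveI : Nontrivial T := by
    by_contra hT
    rw [not_nontrivial_iff_subsingleton,
      IsLocalization.subsingleton_iff (S := T) (M := Algebra.algebraMapSubmonoid S' (Submonoid.powers a))] at hT
    obtain ⟨_, ⟨k, rfl⟩, hk⟩ := hT
    simp only [map_pow] at hk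
    have h2 : algebraMap R S' a ≠ 0 := by
      rw [IsScalarTower.algebraMap_apply R S S']
      intro h0
      have hf' : Submonoid.powers f ≤ nonZeroDivisors S := by
        rintro _ ⟨n, rfl⟩
        exact mem_nonZeroDivisors_of_ne_zero (pow_ne_zero n hf)
      exact ha (hinj ((IsLocalization.injective S' hf' (h0.trans (map_zero _).symm)).trans (map_zero _).symm))
    haveI : IsDomain S' := IsLocalization.isDomain_localization (M := Submonoid.powers f) (by
      rintro _ ⟨n, rfl⟩
      exact mem_nonZeroDivisors_of_ne_zero (pow_ne_zero n hf))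
    exact h2 (pow_eq_zero_iff'.mp hk).1
  haveI := hfree
  haveI : Module.FaithfullyFlat (Localization.Away a) T := inferInstance
  haveI := SerreReg.isRegularRing_of_faithfullyFlat (Localization.Away a) T
  exact ⟨a, ha, mem_regLocus_away a⟩

attribute [local instance] Algebra.TensorProduct.rightAlgebra in
/-- J-0 ascends along generically smooth extensions. -/
theorem exists_regular_of_smoothAt {A A' : Type u} [CommRing A] [IsNoetherianRing A] [CommRing A'] [IsDomain A']
    [Algebra A A'] [FaithfulSMul A A'] [Algebra.FiniteType A A'] [Algebra.IsSmoothAt A (⊥ : Ideal A')] {a : A} (ha : a ≠ 0)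
    (hA : ∀ Q : PrimeSpectrum A, a ∉ Q.asIdeal → Q ∈ EGA4.regLocus A) :
    ∃ g : A', g ≠ 0 ∧ ∀ Q : PrimeSpectrum A', g ∉ Q.asIdeal → Q ∈ EGA4.regLocus A' := by
  haveI : IsNoetherianRing A' := Algebra.FiniteType.isNoetherianRing A A'
  haveI : Algebra.FinitePresentation A A' := Algebra.FinitePresentation.of_finiteType.mp inferInstance
  obtain ⟨g, hg, hsm⟩ := Algebra.IsSmoothAt.exists_notMem_smooth A (⊥ : Ideal A')
  have hg0 : g ≠ 0 := fun h => hg (h ▸ zero_mem _)
  haveI := hsm
  haveI : IsRegularRing (Localization.Away a) := isRegularRing_away a hA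
  let G := Localization.Away g
  let T := Localization.Away a ⊗[A] G
  haveI : IsRegularRing T := isRegularRing_of_smooth (Localization.Away a) T
  refine ⟨g * algebraMap A A' a, mul_ne_zero hg0 fun h =>
    ha (FaithfulSMul.algebraMap_injective A A' (h.trans (map_zero _).symm)), fun Q hQ => ?_⟩
  have hQg : g ∉ Q.asIdeal := fun h => hQ (Q.asIdeal.mul_mem_right _ h)
  have hd : Disjoint (Submonoid.powers g : Set A') (Q.asIdeal : Set A') :=
    (Ideal.disjoint_powers_iff_notMem g Q.2.isRadical).mpr hQg
  let P := Q.asIdeal.map (algebraMap A' G)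
  haveI : P.IsPrime := IsLocalization.isPrime_of_isPrime_disjoint (Submonoid.powers g) _ Q.asIdeal Q.2 hd
  have hPc : P.comap (algebraMap A' G) = Q.asIdeal :=
    IsLocalization.comap_map_of_isPrime_disjoint (Submonoid.powers g) _ Q.2 hd
  haveI : IsRegularLocalRing (Localization.AtPrime P) := isRegularLocalRing_of_isLocalization (T := T)
    (Algebra.algebraMapSubmonoid G (Submonoid.powers a)) P (Set.disjoint_left.mpr (by
      rintro _ ⟨_, ⟨k, rfl⟩, rfl⟩ hk
      simp only [map_pow] at hk
      refine hQ (Q.asIdeal.mul_mem_left _ ?_)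
      rw [← hPc, Ideal.mem_comap, ← IsScalarTower.algebraMap_apply]
      exact Ideal.IsPrime.mem_of_pow_mem inferInstance k hk))
  haveI := IsLocalization.isLocalization_isLocalization_atPrime_isLocalization (Submonoid.powers g)
    (Localization.AtPrime P) P
  haveI : IsLocalization Q.asIdeal.primeCompl (Localization.AtPrime P) := by
    rw [show Q.asIdeal.primeCompl = (P.comap (algebraMap A' G)).primeCompl from
      Submonoid.ext fun c => (not_congr (SetLike.ext_iff.mp hPc c)).symm]
    infer_instance
  exact IsRegularLocalRing.of_ringEquiv (IsLocalization.algEquiv Q.asIdeal.primeCompl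
    (Localization.AtPrime P) (Localization.AtPrime Q.asIdeal)).toRingEquiv

end Groth.Agent.RegLocus
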