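import Groth.Agent.RegLocus.Smooth
import Mathlib.AlgebraicGeometry.Morphisms.FiniteType

/-!
# J-2 schemes
-/

set_option autoImplicit false
set_option linter.style.haveILetI false
universe u

open CategoryTheory AlgebraicGeometry

namespace Groth.Agent.RegLocus

theorem to_stalk (R : CommRingCat.{u}) (x : Spec R) (h : IsRegularLocalRing (Localization.AtPrime x.asIdeal)) :
    IsRegularLocalRing ((Spec R).presheaf.stalk x) := by
  have : IsLocalization.AtPrime ((Spec.structureSheaf R).presheaf.stalk x) x.asIdeal := inferInstance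
  haveI := h
  exact IsRegularLocalRing.of_ringEquiv (IsLocalization.algEquiv x.asIdeal.primeCompl
    (Localization.AtPrime x.asIdeal) ((Spec.structureSheaf R).presheaf.stalk x)).toRingEquiv

theorem regular_stalk_iff {Y Z : Scheme.{u}} (j : Z ⟶ Y) [IsOpenImmersion j] (z : Z) :
    IsRegularLocalRing (Z.presheaf.stalk z) ↔ IsRegularLocalRing (Y.presheaf.stalk (j z)) := by
  let e := (asIso (j.stalkMap z)).commRingCatIsoToRingEquiv
  exact ⟨fun h => haveI := h; IsRegularLocalRing.of_ringEquiv e.symm,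
    fun h => haveI := h; IsRegularLocalRing.of_ringEquiv e⟩

theorem regLocus_eq (R : CommRingCat.{u}) :
    {x : Spec R | IsRegularLocalRing ((Spec R).presheaf.stalk x)} = EGA4.regLocus R :=
  Set.ext fun x => ⟨of_stalk R x, to_stalk R x⟩

/-- An affine open of a scheme over a J-2 scheme has J-2 ring. -/
theorem isJ2_of_affineOpen {X : Scheme.{u}}
    (h : ∀ (Y : Scheme.{u}) (g : Y ⟶ X), LocallyOfFiniteType g →
      IsOpen {y : Y | IsRegularLocalRing (Y.presheaf.stalk y)}) (U : X.affineOpens) :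
    EGA4.IsJ2 Γ(X, U) := by
  intro S _ _ hS
  let φ : Γ(X, U) ⟶ CommRingCat.of S := CommRingCat.ofHom (algebraMap Γ(X, U) S)
  haveI : LocallyOfFiniteType (Spec.map φ) :=
    (HasRingHomProperty.Spec_iff (P := @LocallyOfFiniteType)).mpr (RingHom.finiteType_algebraMap.mpr hS)
  haveI : IsOpenImmersion U.2.fromSpec := inferInstance
  have h1 := h _ (Spec.map φ ≫ U.2.fromSpec) inferInstance
  rw [regLocus_eq] at h1
  exact h1

theorem isOpen_of_isJ2 {X : Scheme.{u}} (h : ∀ x : X, ∃ U : X.affineOpens, x ∈ (U : X.Opens) ∧ EGA4.IsJ2 Γ(X, U))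
    {Y : Scheme.{u}} (g : Y ⟶ X) [LocallyOfFiniteType g] :
    IsOpen {y : Y | IsRegularLocalRing (Y.presheaf.stalk y)} := by
  refine isOpen_iff_forall_mem_open.mpr fun y hy => ?_
  obtain ⟨U, hxU, hU⟩ := h (g y)
  obtain ⟨V, hV, hyV, hVU⟩ := exists_isAffineOpen_mem_and_subset (X := Y) (x := y) (U := g ⁻¹ᵁ (U : X.Opens)) hxU
  letI : Algebra Γ(X, U) Γ(Y, V) := (g.appLE U V hVU).hom.toAlgebra
  haveI : Algebra.FiniteType Γ(X, U) Γ(Y, V) := g.finiteType_appLE U.2 hV hVU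
  have h1 : IsOpen (EGA4.regLocus Γ(Y, V)) := hU Γ(Y, V) inferInstance
  rw [← regLocus_eq] at h1
  haveI : IsOpenImmersion hV.fromSpec := inferInstance
  refine ⟨hV.fromSpec '' {x : Spec Γ(Y, V) | IsRegularLocalRing ((Spec Γ(Y, V)).presheaf.stalk x)},
    ?_, hV.fromSpec.isOpenEmbedding.isOpenMap _ h1, ?_⟩
  · rintro _ ⟨x, hx, rfl⟩
    exact (regular_stalk_iff hV.fromSpec x).mp hx
  · obtain ⟨x, hx⟩ : y ∈ Set.range hV.fromSpec := by rw [hV.range_fromSpec]; exact hyV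
    exact ⟨x, (regular_stalk_iff hV.fromSpec x).mpr (by rw [hx]; exact hy), hx⟩

theorem j2_iff (X : Scheme.{u}) :
    ((∀ (Y : Scheme.{u}) (g : Y ⟶ X), LocallyOfFiniteType g →
        IsOpen {y : Y | IsRegularLocalRing (Y.presheaf.stalk y)}) ↔
      ∀ U : X.affineOpens, EGA4.IsJ2 Γ(X, U)) ∧
    ((∀ (Y : Scheme.{u}) (g : Y ⟶ X), LocallyOfFiniteType g →
        IsOpen {y : Y | IsRegularLocalRing (Y.presheaf.stalk y)}) ↔
      ∀ x : X, ∃ U : X.affineOpens, x ∈ (U : X.Opens) ∧ EGA4.IsJ2 Γ(X, U)) := by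
  have h1 : (∀ U : X.affineOpens, EGA4.IsJ2 Γ(X, U)) →
      ∀ x : X, ∃ U : X.affineOpens, x ∈ (U : X.Opens) ∧ EGA4.IsJ2 Γ(X, U) := fun h x => by
    obtain ⟨U, hU, hxU, -⟩ := exists_isAffineOpen_mem_and_subset (X := X) (x := x) (U := ⊤) (Set.mem_univ _)
    exact ⟨⟨U, hU⟩, hxU, h ⟨U, hU⟩⟩
  exact ⟨⟨fun h => isJ2_of_affineOpen h, fun h Y g hg => haveI := hg; isOpen_of_isJ2 (h1 h) g⟩,
    ⟨fun h => h1 (isJ2_of_affineOpen h), fun h Y g hg => haveI := hg; isOpen_of_isJ2 h g⟩⟩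

end Groth.Agent.RegLocus
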