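import Groth.Agent.RegLocus.Basic
import Groth.Agent.RegLocus.Smooth
import Mathlib.FieldTheory.SeparablyGenerated
import Mathlib.FieldTheory.AlgebraicClosure
import Mathlib.FieldTheory.IsAlgClosed.AlgebraicClosure
import Mathlib.FieldTheory.SeparableClosure
import Mathlib.RingTheory.Smooth.Field
import Mathlib.RingTheory.Nilpotent.GeometricallyReduced

/-!
# The J-0 property of finite type domains
-/

set_option autoImplicit false
set_option linter.style.haveILetI false
universe u

open scoped TensorProduct

namespace Groth.Agent.RegLocus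

/-- Finitely generated geometrically reduced extensions are formally smooth. -/
theorem formallySmooth_of_isGeometricallyReduced (K L : Type u) [Field K] [Field L] [Algebra K L]
    [Algebra.EssFiniteType K L] [Algebra.IsGeometricallyReduced K L] : Algebra.FormallySmooth K L := by
  classical
  obtain _ | ⟨p, hp, hpk⟩ := CharP.exists' K
  · infer_instance
  haveI : ExpChar K p := ExpChar.prime hp.out
  have H : ∀ s : Finset L, LinearIndepOn K _root_.id (s : Set L) → LinearIndepOn K (· ^ p) (s : Set L) := by
    intro s hs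
    show LinearIndependent K fun x : (s : Set L) => (x : L) ^ p
    rw [Fintype.linearIndependent_iff]
    intro c hc
    let Kb := AlgebraicClosure K
    haveI : IsReduced (Kb ⊗[K] L) := (Algebra.isGeometricallyReduced_field_iff K L).mp inferInstance
    haveI : ExpChar Kb p := expChar_of_injective_algebraMap (algebraMap K Kb).injective p
    haveI : Nontrivial (Kb ⊗[K] L) :=
      (Algebra.TensorProduct.includeRight_injective (algebraMap K Kb).injective (A := Kb) (B := L)).nontrivial
    haveI : ExpChar (Kb ⊗[K] L) p := expChar_of_injective_algebraMap (algebraMap K (Kb ⊗[K] L)).injective p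
    choose d hd using fun i => IsAlgClosed.exists_pow_nat_eq (algebraMap K Kb (c i)) hp.out.pos
    let z : Kb ⊗[K] L := ∑ i : (s : Set L), d i ⊗ₜ[K] (i : L)
    have hz : z ^ p = 0 := by
      rw [sum_pow_char p]
      have h1 : ∀ i, (d i ⊗ₜ[K] ((i : (s : Set L)) : L)) ^ p = (1 : Kb) ⊗ₜ[K] (c i • (i : L) ^ p) := fun i => by
        rw [Algebra.TensorProduct.tmul_pow, hd, TensorProduct.tmul_smul, TensorProduct.smul_tmul', Algebra.smul_def, mul_one]
      simp only [h1]
      rw [← TensorProduct.tmul_sum, hc, TensorProduct.tmul_zero]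
    have hz0 : z = 0 := IsReduced.eq_zero z ⟨p, hz⟩
    have hli : LinearIndependent Kb fun i : (s : Set L) => (1 : Kb) ⊗ₜ[K] (i : L) :=
      Module.Flat.linearIndependent_one_tmul hs
    intro i
    have h2 : d i = 0 := Fintype.linearIndependent_iff.mp hli d (by
      simpa only [TensorProduct.smul_tmul', smul_eq_mul, mul_one] using hz0) i
    have h3 := hd i
    rw [h2, zero_pow hp.out.ne_zero] at h3
    exact (map_eq_zero _).mp h3.symm
  obtain ⟨s, hs, hsep⟩ :=
    exists_isTranscendenceBasis_and_isSeparable_of_linearIndepOn_pow_of_essFiniteType p hp.out H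
  have : Algebra.IsSeparable (↥(IntermediateField.adjoin K (Set.range ((↑) : s → L)))) L := by
    convert! hsep <;> simp
  exact .of_algebraicIndependent_of_isSeparable hs.1

/-- Formal smoothness of fraction fields gives generic smoothness. -/
theorem isSmoothAt_bot {A A' : Type u} [CommRing A] [CommRing A'] [IsDomain A] [IsDomain A'] [Algebra A A']
    (K L : Type u) [Field K] [Field L] [Algebra A K] [IsFractionRing A K] [Algebra A' L] [IsFractionRing A' L]
    [Algebra A L] [Algebra K L] [IsScalarTower A K L] [IsScalarTower A A' L] [Algebra.FormallySmooth K L] :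
    Algebra.IsSmoothAt A (⊥ : Ideal A') := by
  haveI : Algebra.FormallySmooth A K := Algebra.FormallySmooth.of_isLocalization (nonZeroDivisors A)
  haveI : Algebra.FormallySmooth A L := Algebra.FormallySmooth.comp A K L
  haveI : IsLocalization (⊥ : Ideal A').primeCompl L := by
    rw [show (⊥ : Ideal A').primeCompl = nonZeroDivisors A' from Submonoid.ext fun a =>
      ⟨fun ha => mem_nonZeroDivisors_of_ne_zero ha, fun ha h0 => nonZeroDivisors.ne_zero ha h0⟩]
    infer_instance
  exact Algebra.FormallySmooth.of_equiv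
    ((IsLocalization.algEquiv (⊥ : Ideal A').primeCompl L (Localization.AtPrime (⊥ : Ideal A'))).restrictScalars A)

theorem exists_div_of_mem_adjoin {A K Ω : Type u} [CommRing A] [IsDomain A] [Field K] [Algebra A K] [IsFractionRing A K]
    [Field Ω] [Algebra A Ω] [Algebra K Ω] [IsScalarTower A K Ω] (S : Set Ω) {z : Ω}
    (hz : z ∈ IntermediateField.adjoin K S) :
    ∃ a ∈ Algebra.adjoin A S, ∃ b ∈ Algebra.adjoin A S, b ≠ 0 ∧ z * b = a := by
  induction hz using IntermediateField.adjoin_induction with
  | mem x hx => exact ⟨x, Algebra.subset_adjoin hx, 1, one_mem _, one_ne_zero, mul_one x⟩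
  | algebraMap x =>
    obtain ⟨a, b, hb, rfl⟩ := IsFractionRing.div_surjective A x
    have hb0 : algebraMap A K b ≠ 0 := fun h =>
      nonZeroDivisors.ne_zero hb (IsFractionRing.injective A K (h.trans (map_zero _).symm))
    refine ⟨algebraMap A Ω a, Subalgebra.algebraMap_mem _ a, algebraMap A Ω b, Subalgebra.algebraMap_mem _ b, ?_, ?_⟩
    · rw [IsScalarTower.algebraMap_apply A K Ω]; exact (map_ne_zero _).mpr hb0
    · rw [IsScalarTower.algebraMap_apply A K Ω, IsScalarTower.algebraMap_apply A K Ω a, ← map_mul,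
        div_mul_cancel₀ _ hb0]
  | add x y _ _ hx hy =>
    obtain ⟨a, ha, b, hb, hb0, hab⟩ := hx
    obtain ⟨a', ha', b', hb', hb0', hab'⟩ := hy
    exact ⟨a * b' + a' * b, add_mem (mul_mem ha hb') (mul_mem ha' hb), b * b', mul_mem hb hb', mul_ne_zero hb0 hb0',
      by rw [← hab, ← hab']; ring⟩
  | inv x _ hx =>
    obtain ⟨a, ha, b, hb, hb0, hab⟩ := hx
    by_cases hx0 : x = 0
    · exact ⟨0, zero_mem _, 1, one_mem _, one_ne_zero, by rw [hx0, inv_zero, zero_mul]⟩
    · refine ⟨b, hb, a, ha, hab ▸ mul_ne_zero hx0 hb0, ?_⟩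
      rw [← hab, ← mul_assoc, inv_mul_cancel₀ hx0, one_mul]
  | mul x y _ _ hx hy =>
    obtain ⟨a, ha, b, hb, hb0, hab⟩ := hx
    obtain ⟨a', ha', b', hb', hb0', hab'⟩ := hy
    exact ⟨a * a', mul_mem ha ha', b * b', mul_mem hb hb', mul_ne_zero hb0 hb0', by rw [← hab, ← hab']; ring⟩

set_option synthInstance.maxHeartbeats 200000 in
set_option maxHeartbeats 1600000 in
/-- If the finite domains over `A` are J-0, so are the finite type ones. -/
theorem exists_regular_of_finiteType_domain {A : Type u} [CommRing A] [IsDomain A] [IsNoetherianRing A]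
    (hA : ∀ (A' : Type u) [CommRing A'] [IsDomain A'] [Algebra A A'], Module.Finite A A' →
      ∃ f : A', f ≠ 0 ∧ ∀ Q : PrimeSpectrum A', f ∉ Q.asIdeal → Q ∈ EGA4.regLocus A')
    (B : Type u) [CommRing B] [IsDomain B] [Algebra A B] [Algebra.FiniteType A B]
    (hinj : Function.Injective (algebraMap A B)) :
    ∃ g : B, g ≠ 0 ∧ ∀ Q : PrimeSpectrum B, g ∉ Q.asIdeal → Q ∈ EGA4.regLocus B := by
  classical
  let L := FractionRing B
  let Ω := AlgebraicClosure L
  let K := FractionRing A
  haveI : IsNoetherianRing B := Algebra.FiniteType.isNoetherianRing A B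
  have hBΩ : Function.Injective (algebraMap B Ω) := by
    rw [IsScalarTower.algebraMap_eq B L Ω]
    exact (algebraMap L Ω).injective.comp (IsFractionRing.injective B L)
  have hAΩ : Function.Injective (algebraMap A Ω) := by
    rw [IsScalarTower.algebraMap_eq A B Ω]
    exact hBΩ.comp hinj
  letI : Algebra K Ω := (IsFractionRing.lift hAΩ).toAlgebra
  haveI : IsScalarTower A K Ω := IsScalarTower.of_algebraMap_eq fun a => (IsFractionRing.lift_algebraMap hAΩ a).symm
  obtain ⟨gensB, hgensB⟩ := ‹Algebra.FiniteType A B›.out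
  let y : Finset Ω := gensB.image (algebraMap B Ω)
  let Kb : IntermediateField K Ω := algebraicClosure K Ω
  haveI : IsAlgClosed Kb := IsAlgClosure.isAlgClosed K
  let Lb : IntermediateField Kb Ω := IntermediateField.adjoin Kb (y : Set Ω)
  haveI : Algebra.EssFiniteType Kb Lb :=
    IntermediateField.essFiniteType_iff.mpr (IntermediateField.fg_adjoin_of_finite y.finite_toSet)
  obtain ⟨s, hs, hsep⟩ := exists_isTranscendenceBasis_and_isSeparable_of_perfectField Kb Lb
  let E : IntermediateField Kb Lb := IntermediateField.adjoin Kb (s : Set Lb)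
  -- finitely many elements of `Kb` suffice
  have hover : ∀ (S : Set Ω) (x : Ω), x ∈ IntermediateField.adjoin Kb S → ∃ T : Finset Ω,
      (∀ t ∈ T, IsIntegral K t) ∧ x ∈ IntermediateField.adjoin K ((T : Set Ω) ∪ S) := by
    intro S x hx
    have hx' : x ∈ IntermediateField.adjoin K ((Kb : Set Ω) ∪ S) := by
      have h1 : x ∈ IntermediateField.adjoin (IntermediateField.adjoin K (Kb : Set Ω)) S := by
        have hle : Kb ≤ IntermediateField.adjoin K (Kb : Set Ω) := fun t ht => IntermediateField.subset_adjoin K _ ht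
        induction hx using IntermediateField.adjoin_induction with
        | mem w hw => exact IntermediateField.subset_adjoin _ _ hw
        | algebraMap w => exact IntermediateField.algebraMap_mem _ (⟨w.1, hle w.2⟩ : IntermediateField.adjoin K (Kb : Set Ω))
        | add a b _ _ ha hb => exact add_mem ha hb
        | inv a _ ha => exact inv_mem ha
        | mul a b _ _ ha hb => exact mul_mem ha hb
      have h2 : x ∈ (IntermediateField.adjoin (IntermediateField.adjoin K (Kb : Set Ω)) S).restrictScalars K := h1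
      rwa [IntermediateField.adjoin_adjoin_left] at h2
    obtain ⟨T, hT, hxT⟩ := IntermediateField.exists_finset_of_mem_adjoin hx'
    refine ⟨T.filter (· ∈ Kb), fun t ht => mem_algebraicClosure_iff'.mp (Finset.mem_filter.mp ht).2, ?_⟩
    refine IntermediateField.adjoin.mono K _ _ (fun t ht => ?_) hxT
    by_cases htK : t ∈ Kb
    · exact Or.inl (Finset.mem_coe.mpr (Finset.mem_filter.mpr ⟨ht, htK⟩))
    · exact Or.inr ((hT ht).resolve_left htK)
  let sΩ : Set Ω := Subtype.val '' (s : Set Lb)
  have hEΩ : ∀ c : E, ((c : Lb) : Ω) ∈ IntermediateField.adjoin Kb sΩ := fun c => by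
    have h1 : ((c : Lb) : Ω) ∈ E.map Lb.val := ⟨c, c.2, rfl⟩
    rwa [IntermediateField.adjoin_map] at h1
  choose Ts hTsint hTs using fun t : s => hover (y : Set Ω) ((t : Lb) : Ω) t.1.2
  have hyLb : ∀ w : y, (w : Ω) ∈ Lb := fun w => IntermediateField.subset_adjoin _ _ w.2
  haveI : Algebra.IsSeparable E Lb := hsep
  let mp : y → Polynomial E := fun w => minpoly E (⟨w, hyLb w⟩ : Lb)
  choose Tc hTcint hTc using fun (w : y) (n : ℕ) => hover sΩ _ (hEΩ ((mp w).coeff n))
  let D0 : Finset Ω := (Finset.univ.biUnion fun t : s => Ts t) ∪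
    (Finset.univ.biUnion fun w : y => (Finset.range ((mp w).natDegree + 1)).biUnion fun n => Tc w n)
  have hD0int : ∀ t ∈ D0, IsIntegral K t := fun t ht => by
    rcases Finset.mem_union.mp ht with h | h
    · obtain ⟨a, -, ha⟩ := Finset.mem_biUnion.mp h
      exact hTsint a t ha
    · obtain ⟨a, -, ha⟩ := Finset.mem_biUnion.mp h
      obtain ⟨n, -, hn⟩ := Finset.mem_biUnion.mp ha
      exact hTcint a n t hn
  -- scale to integral elements over `A`
  have hscale : ∃ d : A, d ≠ 0 ∧ ∀ t ∈ D0, IsIntegral A (d • t) := by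
    have h1 : ∀ t ∈ D0, ∃ m : nonZeroDivisors A, IsIntegral A ((m : A) • t) := fun t ht =>
      IsIntegral.exists_multiple_integral_of_isLocalization (nonZeroDivisors A) t (hD0int t ht)
    choose m hm using h1
    refine ⟨∏ t : D0, (m t.1 t.2 : A), Finset.prod_ne_zero_iff.mpr fun t _ => nonZeroDivisors.coe_ne_zero _, fun t ht => ?_⟩
    obtain ⟨e, he⟩ : (m t ht : A) ∣ ∏ t : D0, (m t.1 t.2 : A) :=
      Finset.dvd_prod_of_mem (fun t : D0 => (m t.1 t.2 : A)) (Finset.mem_univ ⟨t, ht⟩)
    rw [he, mul_comm, mul_smul]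
    exact (hm t ht).smul e
  obtain ⟨d, hd0, hd⟩ := hscale
  let D : Finset Ω := D0.image (d • ·)
  have hD0 : (D0 : Set Ω) ⊆ IntermediateField.adjoin K (D : Set Ω) := fun t ht => by
    have h1 : d • t ∈ IntermediateField.adjoin K (D : Set Ω) :=
      IntermediateField.subset_adjoin K _ (Finset.mem_image_of_mem _ ht)
    have hd' : algebraMap A K d ≠ 0 := fun h => hd0 (IsFractionRing.injective A K (h.trans (map_zero _).symm))
    rw [← IsScalarTower.algebraMap_smul K d t] at h1
    have h2 := IntermediateField.smul_mem (IntermediateField.adjoin K (D : Set Ω)) (x := (algebraMap A K d)⁻¹) h1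
    rwa [smul_smul, inv_mul_cancel₀ hd', one_smul] at h2
  let A' := Algebra.adjoin A (D : Set Ω)
  let B' := Algebra.adjoin A ((D : Set Ω) ∪ y)
  let K' := IntermediateField.adjoin K (D : Set Ω)
  let L' := IntermediateField.adjoin K ((D : Set Ω) ∪ y)
  have hAB : A' ≤ B' := Algebra.adjoin_mono Set.subset_union_left
  have hKL : K' ≤ L' := IntermediateField.adjoin.mono K _ _ Set.subset_union_left
  have hAK' : ∀ a ∈ A', a ∈ K' := fun a ha => by
    have : A' ≤ K'.toSubalgebra.restrictScalars A := Algebra.adjoin_le fun t ht => IntermediateField.subset_adjoin K _ ht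
    exact this ha
  have hBL' : ∀ a ∈ B', a ∈ L' := fun a ha => by
    have : B' ≤ L'.toSubalgebra.restrictScalars A := Algebra.adjoin_le fun t ht => IntermediateField.subset_adjoin K _ ht
    exact this ha
  haveI : Module.Finite A A' := Module.Finite.iff_fg.mpr (fg_adjoin_of_finite D.finite_toSet fun t ht => by
    obtain ⟨t', ht', rfl⟩ := Finset.mem_image.mp ht
    exact hd t' ht')
  obtain ⟨a, ha0, ha⟩ := hA A' inferInstance
  haveI : IsNoetherianRing A' := IsNoetherianRing.of_finite A A'
  -- algebra structures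
  letI : Algebra A' B' := (Subalgebra.inclusion hAB).toRingHom.toAlgebra
  haveI : IsScalarTower A A' B' := IsScalarTower.of_algebraMap_eq fun _ => rfl
  haveI : Algebra.FiniteType A B' :=
    (Subalgebra.fg_iff_finiteType B').mp ⟨D ∪ y, by rw [Finset.coe_union]⟩
  haveI : Algebra.FiniteType A' B' := Algebra.FiniteType.of_restrictScalars_finiteType A A' B'
  haveI : FaithfulSMul A' B' := (faithfulSMul_iff_algebraMap_injective _ _).mpr fun a b h =>
    Subtype.ext (congrArg (fun z : B' => (z : Ω)) h :)
  letI : Algebra A' K' := ((A'.val.toRingHom.codRestrict K'.toSubfield.toSubring fun a => hAK' a a.2)).toAlgebra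
  letI : Algebra B' L' := ((B'.val.toRingHom.codRestrict L'.toSubfield.toSubring fun a => hBL' a a.2)).toAlgebra
  letI : Algebra K' L' := (IntermediateField.inclusion hKL).toRingHom.toAlgebra
  letI : Algebra A' L' := ((algebraMap B' L').comp (algebraMap A' B')).toAlgebra
  haveI : IsScalarTower A' B' L' := IsScalarTower.of_algebraMap_eq fun _ => rfl
  haveI : IsScalarTower A' K' L' := IsScalarTower.of_algebraMap_eq fun _ => Subtype.ext rfl
  haveI : IsScalarTower K' L' Ω := IsScalarTower.of_algebraMap_eq fun _ => rfl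
  haveI : FaithfulSMul A' K' := (faithfulSMul_iff_algebraMap_injective _ _).mpr fun a b h =>
    Subtype.ext (congrArg (fun z : K' => (z : Ω)) h :)
  haveI : IsFractionRing A' K' := IsFractionRing.of_field A' K' fun z => by
    obtain ⟨a, ha, b, hb, hb0, hab⟩ := exists_div_of_mem_adjoin (A := A) (D : Set Ω) z.2
    exact ⟨⟨a, ha⟩, ⟨b, hb⟩, Subtype.ext (show (z : Ω) = a / b by rw [eq_div_iff hb0, hab])⟩
  haveI : FaithfulSMul B' L' := (faithfulSMul_iff_algebraMap_injective _ _).mpr fun a b h =>
    Subtype.ext (congrArg (fun z : L' => (z : Ω)) h :)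
  haveI : IsFractionRing B' L' := IsFractionRing.of_field B' L' fun z => by
    obtain ⟨a, ha, b, hb, hb0, hab⟩ := exists_div_of_mem_adjoin (A := A) ((D : Set Ω) ∪ y) z.2
    exact ⟨⟨a, ha⟩, ⟨b, hb⟩, Subtype.ext (show (z : Ω) = a / b by rw [eq_div_iff hb0, hab])⟩
  -- the separating transcendence basis descends
  have hT : ∀ t : s, ((t : Lb) : Ω) ∈ L' := fun t => by
    refine (IntermediateField.adjoin_le_iff.mpr ?_) (hTs t)
    rintro w (hw | hw)
    · exact hKL (hD0 (Finset.mem_union_left _ (Finset.mem_biUnion.mpr ⟨t, Finset.mem_univ _, hw⟩)))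
    · exact IntermediateField.subset_adjoin K _ (Or.inr hw)
  let v : s → L' := fun t => ⟨_, hT t⟩
  have hv : AlgebraicIndependent K' v := by
    have hK'Kb : K' ≤ Kb := IntermediateField.adjoin_le_iff.mpr fun t ht => by
      obtain ⟨t', ht', rfl⟩ := Finset.mem_image.mp ht
      exact mem_algebraicClosure_iff'.mpr ((hd t' ht').tower_top)
    letI : Algebra K' Kb := (IntermediateField.inclusion hK'Kb).toRingHom.toAlgebra
    haveI : IsScalarTower K' Kb Ω := IsScalarTower.of_algebraMap_eq fun _ => rfl
    have h1 : AlgebraicIndependent Kb fun t : s => ((t : Lb) : Ω) := hs.1.map' (f := Lb.val) Subtype.val_injective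
    have h2 : AlgebraicIndependent K' fun t : s => ((t : Lb) : Ω) :=
      h1.restrictScalars (algebraMap K' Kb).injective
    exact AlgebraicIndependent.of_comp (IsScalarTower.toAlgHom K' L' Ω) h2
  let E' := IntermediateField.adjoin K' (Set.range v)
  haveI : Algebra.IsSeparable E' L' := by
    have hgen : ∀ z : L', z ∈ IntermediateField.adjoin E' (Subtype.val ⁻¹' (y : Set Ω) : Set L') := by
      rintro ⟨z, hz⟩
      induction hz using IntermediateField.adjoin_induction with
      | mem x hx =>
        rcases hx with hx | hx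
        · exact IntermediateField.algebraMap_mem _ (algebraMap K' E' ⟨x, IntermediateField.subset_adjoin K _ hx⟩)
        · exact IntermediateField.subset_adjoin _ _ hx
      | algebraMap x => exact IntermediateField.algebraMap_mem _ (algebraMap K' E' ⟨algebraMap K Ω x, K'.algebraMap_mem x⟩)
      | add x y' hx hy _ _ => exact add_mem (a := (⟨x, hx⟩ : L')) (b := ⟨y', hy⟩) ‹_› ‹_›
      | inv x hx _ => exact inv_mem (x := (⟨x, hx⟩ : L')) ‹_›
      | mul x y' hx hy _ _ => exact mul_mem (a := (⟨x, hx⟩ : L')) (b := ⟨y', hy⟩) ‹_› ‹_›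
    have htop : IntermediateField.adjoin E' (Subtype.val ⁻¹' (y : Set Ω) : Set L') = ⊤ := eq_top_iff.mpr fun z _ => hgen z
    haveI : Algebra.IsSeparable E' (IntermediateField.adjoin E' (Subtype.val ⁻¹' (y : Set Ω) : Set L')) := by
      refine (IntermediateField.isSeparable_adjoin_iff_isSeparable _ _).mpr fun z hz => ?_
      let w : y := ⟨(z : Ω), hz⟩
      -- the coefficients of the minimal polynomial lie in `E'`
      let ι : E' →+* Ω := (algebraMap L' Ω).comp (algebraMap E' L')
      let F : IntermediateField K Ω :=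
        { ι.fieldRange with
          algebraMap_mem' := fun c => ⟨algebraMap K' E' ⟨algebraMap K Ω c, K'.algebraMap_mem c⟩, rfl⟩ }
      let P : Polynomial Ω := (mp w).map ((algebraMap Lb Ω).comp (algebraMap E Lb))
      have hP : P ∈ Polynomial.lifts ι := by
        rw [Polynomial.lifts_iff_coeff_lifts]
        intro n
        rw [Polynomial.coeff_map]
        by_cases hn : n ≤ (mp w).natDegree
        · have hle : IntermediateField.adjoin K ((Tc w n : Set Ω) ∪ sΩ) ≤ F := IntermediateField.adjoin_le_iff.mpr (by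
            rintro x (hx | ⟨t, ht, rfl⟩)
            · exact ⟨algebraMap K' E' ⟨x, hD0 (Finset.mem_union_right _ (Finset.mem_biUnion.mpr
                ⟨w, Finset.mem_univ _, Finset.mem_biUnion.mpr ⟨n, Finset.mem_range.mpr (Nat.lt_succ_of_le hn), hx⟩⟩))⟩, rfl⟩
            · exact ⟨⟨v ⟨t, ht⟩, IntermediateField.subset_adjoin _ _ ⟨⟨t, ht⟩, rfl⟩⟩, rfl⟩)
          exact hle (hTc w n)
        · rw [Polynomial.coeff_eq_zero_of_natDegree_lt (not_le.mp hn), map_zero]
          exact ⟨0, map_zero ι⟩
      obtain ⟨Q, hQ⟩ := hP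
      have hQsep : Q.Separable := by
        have : P.Separable := Polynomial.Separable.map (Algebra.IsSeparable.isSeparable E (⟨(w : Ω), hyLb w⟩ : Lb))
        rw [← hQ, Polynomial.coe_mapRingHom, Polynomial.separable_map] at this
        exact this
      have hQz : Polynomial.aeval z Q = 0 := by
        apply (algebraMap L' Ω).injective
        rw [map_zero, Polynomial.aeval_def, Polynomial.hom_eval₂]
        show Polynomial.eval₂ ι (z : Ω) Q = 0
        rw [← Polynomial.eval_map]
        rw [Polynomial.coe_mapRingHom] at hQ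
        rw [hQ, Polynomial.eval_map]
        have h0 := congrArg (algebraMap Lb Ω) (minpoly.aeval E (⟨(w : Ω), hyLb w⟩ : Lb))
        rw [map_zero, Polynomial.aeval_def, Polynomial.hom_eval₂] at h0
        exact h0
      exact Polynomial.Separable.of_dvd hQsep (minpoly.dvd E' z hQz)
    rw [htop] at this
    exact AlgEquiv.Algebra.isSeparable IntermediateField.topEquiv
  haveI : Algebra.FormallySmooth K' L' := Algebra.FormallySmooth.of_algebraicIndependent_of_isSeparable hv
  haveI : Algebra.IsSmoothAt A' (⊥ : Ideal B') := isSmoothAt_bot K' L'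
  obtain ⟨g, hg0, hg⟩ := exists_regular_of_smoothAt (A := A') (A' := B') ha0 ha
  -- descend to `B`
  have hmem : ∀ b : B, algebraMap B Ω b ∈ B' := fun b => by
    have h1 : b ∈ Algebra.adjoin A (gensB : Set B) := hgensB ▸ Algebra.mem_top
    have h2 : (Algebra.adjoin A (gensB : Set B)).map (IsScalarTower.toAlgHom A B Ω) ≤ B' := by
      rw [AlgHom.map_adjoin]
      exact Algebra.adjoin_mono (fun w hw => Or.inr (by rw [Finset.coe_image]; exact hw))
    exact h2 ⟨b, h1, rfl⟩
  letI : Algebra B B' := ((algebraMap B Ω).codRestrict B'.toSubring hmem).toAlgebra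
  haveI : IsScalarTower A B B' := IsScalarTower.of_algebraMap_eq fun x => Subtype.ext (by
    show algebraMap A Ω x = algebraMap B Ω (algebraMap A B x)
    rw [← IsScalarTower.algebraMap_apply])
  haveI : Algebra.FiniteType B B' := Algebra.FiniteType.of_restrictScalars_finiteType A B B'
  exact exists_regular_of_finiteType (R := B) (S := B') (fun a b h => hBΩ (congrArg (fun z : B' => (z : Ω)) h :)) hg0 hg

end Groth.Agent.RegLocus
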