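import Groth.Agent.RegLocus.Basic
import Groth.Agent.RegLocus.Smooth
import Groth.Agent.RegLocus.J0
import Groth.Agent.Nagata.Basic
import Groth.Agent.Nagata.Japanese

/-!
# J-2 rings
-/

set_option autoImplicit false
set_option linter.style.haveILetI false
universe u

namespace Groth.Agent.RegLocus

open EGA4

/-- The generic point of a domain is regular. -/
theorem mem_regLocus_of_eq_bot {A : Type u} [CommRing A] [IsDomain A] (Q : PrimeSpectrum A)
    (hQ : Q.asIdeal = ⊥) : Q ∈ regLocus A := by
  haveI : IsLocalization Q.asIdeal.primeCompl (FractionRing A) := by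
    rw [show Q.asIdeal.primeCompl = nonZeroDivisors A from Submonoid.ext fun a =>
      ⟨fun ha => mem_nonZeroDivisors_of_ne_zero fun h => ha (h ▸ zero_mem _),
        fun ha h0 => nonZeroDivisors.ne_zero ha (Ideal.mem_bot.mp (hQ ▸ (h0 : a ∈ Q.asIdeal)))⟩]
    infer_instance
  exact IsRegularLocalRing.of_ringEquiv
    (IsLocalization.algEquiv Q.asIdeal.primeCompl (FractionRing A) (Localization.AtPrime Q.asIdeal)).toRingEquiv

theorem exists_ne_zero_of_isOpen {A : Type u} [CommRing A] [IsDomain A] (h : IsOpen (regLocus A)) :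
    ∃ f : A, f ≠ 0 ∧ ∀ Q : PrimeSpectrum A, f ∉ Q.asIdeal → Q ∈ regLocus A :=
  exists_ne_zero_of_open h ⟨⟨⊥, Ideal.isPrime_bot⟩, mem_regLocus_of_eq_bot _ rfl⟩ subset_rfl

theorem mem_regLocus_ringEquiv {R S : Type u} [CommRing R] [CommRing S] (e : R ≃+* S) (Q : PrimeSpectrum S)
    (h : PrimeSpectrum.comap e.toRingHom Q ∈ regLocus R) : Q ∈ regLocus S := by
  haveI : IsRegularLocalRing (Localization.AtPrime (PrimeSpectrum.comap e.toRingHom Q).asIdeal) := h
  refine IsRegularLocalRing.of_ringEquiv (IsLocalization.ringEquivOfRingEquiv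
    (M := (PrimeSpectrum.comap e.toRingHom Q).asIdeal.primeCompl) (T := Q.asIdeal.primeCompl)
    (Localization.AtPrime (PrimeSpectrum.comap e.toRingHom Q).asIdeal) (Localization.AtPrime Q.asIdeal) e ?_)
  ext x
  refine ⟨?_, fun hx => ⟨e.symm x, fun hm => hx ?_, e.apply_symm_apply x⟩⟩
  · rintro ⟨y, hy, rfl⟩
    exact hy
  · have h1 : e (e.symm x) ∈ Q.asIdeal := hm
    rwa [e.apply_symm_apply] at h1

theorem exists_ne_zero_ringEquiv {R S : Type u} [CommRing R] [CommRing S] (e : R ≃+* S)
    (h : ∃ f : R, f ≠ 0 ∧ ∀ Q : PrimeSpectrum R, f ∉ Q.asIdeal → Q ∈ regLocus R) :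
    ∃ f : S, f ≠ 0 ∧ ∀ Q : PrimeSpectrum S, f ∉ Q.asIdeal → Q ∈ regLocus S := by
  obtain ⟨f, hf0, hf⟩ := h
  exact ⟨e f, (map_ne_zero_iff e e.injective).mpr hf0, fun Q hQ => mem_regLocus_ringEquiv e Q (hf _ hQ)⟩

/-- If the finite domains over `A` are J-0, then `A` is J-2. -/
theorem isJ2_of_finite_domains {A : Type u} [CommRing A] [IsNoetherianRing A]
    (hA : ∀ (A' : Type u) [CommRing A'] [IsDomain A'] [Algebra A A'], Module.Finite A A' →
      ∃ f : A', f ≠ 0 ∧ ∀ Q : PrimeSpectrum A', f ∉ Q.asIdeal → Q ∈ regLocus A') : IsJ2 A := by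
  intro S _ _ hS
  haveI : IsNoetherianRing S := Algebra.FiniteType.isNoetherianRing A S
  refine isOpen_regLocus_of_quotients fun p _ => ?_
  let B := S ⧸ p.asIdeal
  haveI : Algebra.FiniteType A B :=
    Algebra.FiniteType.of_surjective (Ideal.Quotient.mkₐ A p.asIdeal) Ideal.Quotient.mk_surjective
  let P := RingHom.ker (algebraMap A B)
  haveI : P.IsPrime := RingHom.ker_isPrime _
  letI : Algebra (A ⧸ P) B := (RingHom.kerLift (algebraMap A B)).toAlgebra
  haveI : IsScalarTower A (A ⧸ P) B := IsScalarTower.of_algebraMap_eq fun _ => rfl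
  haveI : Algebra.FiniteType (A ⧸ P) B := Algebra.FiniteType.of_restrictScalars_finiteType A (A ⧸ P) B
  obtain ⟨g, hg0, hg⟩ := exists_regular_of_finiteType_domain (A := A ⧸ P) (fun A' _ _ _ hfin => by
    letI : Algebra A A' := ((algebraMap (A ⧸ P) A').comp (Ideal.Quotient.mk P)).toAlgebra
    haveI : IsScalarTower A (A ⧸ P) A' := IsScalarTower.of_algebraMap_eq fun _ => rfl
    haveI := hfin
    exact hA A' (Module.Finite.trans (A ⧸ P) A')) B (RingHom.kerLift_injective _)
  exact exists_open_of_ne_zero hg0 hg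

/-- A finite domain over a ring with maximal kernel is J-0. -/
theorem exists_regular_of_ker_isMaximal {A A' : Type u} [CommRing A] [CommRing A'] [IsDomain A'] [Algebra A A']
    [Module.Finite A A'] (h : (RingHom.ker (algebraMap A A')).IsMaximal) :
    ∃ f : A', f ≠ 0 ∧ ∀ Q : PrimeSpectrum A', f ∉ Q.asIdeal → Q ∈ regLocus A' := by
  haveI : Algebra.IsIntegral A A' := inferInstance
  haveI : (⊥ : Ideal A').IsMaximal :=
    Ideal.isMaximal_of_isIntegral_of_isMaximal_comap (R := A) (⊥ : Ideal A') (by exact h)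
  exact ⟨1, one_ne_zero, fun Q _ => mem_regLocus_of_eq_bot Q
    (((inferInstance : (⊥ : Ideal A').IsMaximal).eq_of_le Q.2.ne_top bot_le).symm)⟩

/-- A finite domain over a ring of dimension at most one has dimension at most one. -/
theorem dimensionLEOne_of_finite {A A' : Type u} [CommRing A] [CommRing A'] [IsDomain A'] [Algebra A A']
    [Module.Finite A A'] (hdim : ringKrullDim A ≤ 1) : Ring.DimensionLEOne A' := by
  haveI : Algebra.IsIntegral A A' := inferInstance
  haveI : Ring.KrullDimLE 1 A := (Ring.krullDimLE_iff).mpr hdim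
  refine ⟨fun {q} hq hqp => ?_⟩
  haveI := hqp
  obtain ⟨M, hM, hqM⟩ := q.exists_le_maximal hqp.ne_top
  rcases hqM.eq_or_lt with rfl | hlt
  · exact hM
  exfalso
  have h1 : (⊥ : Ideal A').comap (algebraMap A A') < q.comap (algebraMap A A') :=
    Ideal.IsIntegral.comap_lt_comap (bot_lt_iff_ne_bot.mpr hq)
  have h2 : q.comap (algebraMap A A') < M.comap (algebraMap A A') := Ideal.IsIntegral.comap_lt_comap hlt
  rcases Ring.krullDimLE_one_iff.mp (inferInstance : Ring.KrullDimLE 1 A) (q.comap (algebraMap A A'))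
    inferInstance with hmin | hmax
  · exact h1.not_ge (hmin.2 ⟨inferInstance, bot_le⟩ h1.le)
  · exact h2.ne (hmax.eq_of_le (Ideal.IsPrime.ne_top inferInstance) h2.le)

theorem isJ2_field (k : Type u) [Field k] : IsJ2 k :=
  isJ2_of_finite_domains fun A' _ _ _ hfin => haveI := hfin; exists_regular_of_ker_isMaximal (A := k) (A' := A') (by
    rw [(RingHom.injective_iff_ker_eq_bot _).mp (RingHom.injective (algebraMap k A'))]
    exact Ideal.bot_isMaximal)

theorem isJ2_of_isDedekindDomain_charZero (A : Type u) [CommRing A] [IsDedekindDomain A] [CharZero A] : IsJ2 A := by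
  refine isJ2_of_finite_domains fun A' _ _ _ hfin => ?_
  haveI := hfin
  haveI hP : (RingHom.ker (algebraMap A A')).IsPrime := RingHom.ker_isPrime _
  by_cases hk : RingHom.ker (algebraMap A A') = ⊥
  swap
  · exact exists_regular_of_ker_isMaximal (hP.isMaximal hk)
  haveI : FaithfulSMul A A' := (faithfulSMul_iff_algebraMap_injective _ _).mpr ((RingHom.injective_iff_ker_eq_bot _).mpr hk)
  letI K := FractionRing A
  letI L := FractionRing A'
  haveI : FaithfulSMul A (FractionRing A') := FaithfulSMul.trans A A' (FractionRing A')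
  letI : Algebra (FractionRing A) (FractionRing A') := FractionRing.liftAlgebra A (FractionRing A')
  haveI : CharZero (FractionRing A) := charZero_of_injective_algebraMap (IsFractionRing.injective A (FractionRing A))
  haveI : Algebra.EssFiniteType A' (FractionRing A') :=
    Algebra.EssFiniteType.of_isLocalization (FractionRing A') (nonZeroDivisors A')
  haveI : Algebra.EssFiniteType A (FractionRing A') := Algebra.EssFiniteType.comp A A' (FractionRing A')
  haveI : Algebra.EssFiniteType (FractionRing A) (FractionRing A') :=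
    Algebra.EssFiniteType.of_comp A (FractionRing A) (FractionRing A')
  haveI : Algebra.IsSmoothAt A (⊥ : Ideal A') := isSmoothAt_bot (FractionRing A) (FractionRing A')
  exact exists_regular_of_smoothAt (A := A) (A' := A') (a := 1) one_ne_zero fun Q _ =>
    IsRegularRing.isRegularLocalRing_localization Q.asIdeal

theorem isJ2_of_semilocal_dim_le_one (A : Type u) [CommRing A] [IsNoetherianRing A]
    (hsl : {I : Ideal A | I.IsMaximal}.Finite) (hdim : ringKrullDim A ≤ 1) : IsJ2 A := by
  classical
  refine isJ2_of_finite_domains fun A' _ _ _ hfin => ?_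
  haveI := hfin
  haveI : Algebra.IsIntegral A A' := inferInstance
  haveI := dimensionLEOne_of_finite (A := A) (A' := A') hdim
  have hfinset : {M : Ideal A' | M.IsPrime ∧ M ≠ ⊥}.Finite := by
    refine Set.Finite.subset (hsl.biUnion fun m _ => Algebra.QuasiFinite.finite_primesOver (S := A') m) ?_
    rintro M ⟨hMp, hM⟩
    haveI : M.IsMaximal := hMp.isMaximal hM
    exact Set.mem_biUnion (x := M.comap (algebraMap A A')) (Ideal.isMaximal_comap_of_isIntegral_of_isMaximal M)
      ⟨hMp, ⟨rfl⟩⟩
  have hne : ∀ M ∈ hfinset.toFinset, ∃ x ∈ M, x ≠ 0 := fun M hM =>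
    Submodule.exists_mem_ne_zero_of_ne_bot ((hfinset.mem_toFinset.mp hM).2)
  choose x hxM hx0 using hne
  refine ⟨∏ M : hfinset.toFinset, x M.1 M.2, Finset.prod_ne_zero_iff.mpr fun M _ => hx0 _ _, fun Q hQ =>
    mem_regLocus_of_eq_bot Q ?_⟩
  by_contra hQ0
  refine hQ (Ideal.IsPrime.prod_mem_iff.mpr ⟨⟨Q.asIdeal, hfinset.mem_toFinset.mpr ⟨Q.2, hQ0⟩⟩, Finset.mem_univ _, hxM _ _⟩)

theorem isJ2_of_isNagata_of_dim_one (R : Type u) [CommRing R] (hR : CAlg.IsNagata R)
    (hdim : ringKrullDim R = 1) : IsJ2 R := by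
  haveI := hR.1
  refine isJ2_of_finite_domains fun A' _ _ _ hfin => ?_
  haveI := hfin
  haveI := dimensionLEOne_of_finite (A := R) (A' := A') hdim.le
  haveI : IsNoetherianRing A' := IsNoetherianRing.of_finite R A'
  have hN2 : CAlg.IsN2 A' := Nagata.isN2_of_ringEquiv (RingEquiv.quotientBot A')
    ((Nagata.isNagata_of_finite hR (C := A')).2 ⊥)
  haveI : Module.Finite A' (integralClosure A' (FractionRing A')) := Nagata.isN1_of_isN2 hN2
  let C := integralClosure A' (FractionRing A')
  haveI : IsNoetherianRing C := IsNoetherianRing.of_finite A' C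
  haveI : Ring.DimensionLEOne C := Ring.DimensionLEOne.integralClosure A' (FractionRing A')
  haveI : IsIntegrallyClosed C :=
    integralClosure.isIntegrallyClosedOfFiniteExtension (R := A') (FractionRing A') (L := FractionRing A')
  haveI : IsDedekindDomain C := { }
  refine exists_regular_of_finiteType (R := A') (S := C) (f := 1) ?_ one_ne_zero fun Q _ =>
    IsRegularRing.isRegularLocalRing_localization Q.asIdeal
  intro a b h
  exact IsFractionRing.injective A' (FractionRing A') (congrArg Subtype.val h)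

end Groth.Agent.RegLocus
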