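import Groth.Agent.SerreReg.Descent
import Groth.Prelude.Def_EGA4b
import Mathlib.RingTheory.Ideal.Height
import Mathlib.RingTheory.Ideal.KrullsHeightTheorem
import Mathlib.RingTheory.Localization.AtPrime.Basic
import Mathlib.RingTheory.Spectrum.Prime.Noetherian

/-!
# Openness of the regular locus: generalization, topological criterion, extension from a prime
-/

set_option autoImplicit false
set_option linter.style.haveILetI false
universe u

open IsLocalRing

namespace Groth.Agent.RegLocus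

theorem mem_regLocus_of_le {R : Type u} [CommRing R] {P Q : PrimeSpectrum R} (h : P ≤ Q)
    (hQ : Q ∈ EGA4.regLocus R) : P ∈ EGA4.regLocus R := by
  let T := Localization.AtPrime Q.asIdeal
  haveI : IsRegularLocalRing T := hQ
  let P' := P.asIdeal.map (algebraMap R T)
  have hdisj : Disjoint (Q.asIdeal.primeCompl : Set R) (P.asIdeal : Set R) :=
    Set.disjoint_left.mpr fun a ha hap => ha (h hap)
  haveI : P'.IsPrime := IsLocalization.isPrime_of_isPrime_disjoint Q.asIdeal.primeCompl _ P.asIdeal P.2 hdisj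
  haveI := SerreReg.isRegularLocalRing_localization T P'
  haveI := IsLocalization.isLocalization_isLocalization_atPrime_isLocalization Q.asIdeal.primeCompl
    (Localization.AtPrime P') P'
  have hP : P'.comap (algebraMap R T) = P.asIdeal :=
    IsLocalization.comap_map_of_isPrime_disjoint Q.asIdeal.primeCompl _ P.2 hdisj
  haveI : IsLocalization P.asIdeal.primeCompl (Localization.AtPrime P') := by
    rw [show P.asIdeal.primeCompl = (P'.comap (algebraMap R T)).primeCompl from
      Submonoid.ext fun a => (not_congr (SetLike.ext_iff.mp hP a)).symm]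
    infer_instance
  exact IsRegularLocalRing.of_ringEquiv
    (IsLocalization.algEquiv P.asIdeal.primeCompl (Localization.AtPrime P') (Localization.AtPrime P.asIdeal)).toRingEquiv

/-- Nagata's topological criterion. -/
theorem isOpen_of_nhds_in_closure {R : Type u} [CommRing R] [IsNoetherianRing R] {S : Set (PrimeSpectrum R)}
    (hgen : ∀ {P Q : PrimeSpectrum R}, P ≤ Q → Q ∈ S → P ∈ S)
    (h : ∀ P ∈ S, ∃ U : Set (PrimeSpectrum R), IsOpen U ∧ P ∈ U ∧ U ∩ PrimeSpectrum.zeroLocus (P.asIdeal : Set R) ⊆ S) :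
    IsOpen S := by
  rw [← isClosed_compl_iff]
  let I := PrimeSpectrum.vanishingIdeal Sᶜ
  have hZ : closure Sᶜ = PrimeSpectrum.zeroLocus (I : Set R) := (PrimeSpectrum.zeroLocus_vanishingIdeal_eq_closure _).symm
  refine closure_subset_iff_isClosed.mp fun z hz => ?_
  have hzI : I ≤ z.asIdeal := (PrimeSpectrum.mem_zeroLocus _ _).mp (hZ ▸ hz)
  obtain ⟨η, hη, hηz⟩ := Ideal.exists_minimalPrimes_le hzI
  haveI := hη.1.1
  let e : PrimeSpectrum R := ⟨η, inferInstance⟩
  suffices he : e ∉ S from fun hzS => he (hgen (show e ≤ z from hηz) hzS)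
  intro heS
  obtain ⟨U, hU, heU, hUS⟩ := h e heS
  obtain ⟨_, ⟨f, rfl⟩, hf, hfU⟩ := PrimeSpectrum.isTopologicalBasis_basic_opens.exists_subset_of_mem_open heU hU
  -- an element in all other minimal primes but not in `η`
  let others := (Ideal.finite_minimalPrimes_of_isNoetherianRing R I).toFinset.erase η
  have hch : ∀ P : others, ∃ c ∈ P.1, c ∉ η := fun P => by
    obtain ⟨hne, hP⟩ := Finset.mem_erase.mp P.2
    rw [Set.Finite.mem_toFinset] at hP
    by_contra! hle
    exact hne (le_antisymm hle (hη.2 ⟨hP.1.1, hP.1.2⟩ hle))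
  choose c hc hcη using hch
  let g := f * ∏ P, c P
  have hg : g ∉ η := fun hmem => by
    rcases (inferInstance : η.IsPrime).mem_or_mem hmem with h1 | h1
    · exact hf h1
    · obtain ⟨P, -, hP⟩ := (Ideal.IsPrime.prod_mem_iff (p := η)).mp h1
      exact hcη P hP
  have hclosed : Sᶜ ⊆ PrimeSpectrum.zeroLocus {g} := fun q hq => by
    rw [PrimeSpectrum.mem_zeroLocus, Set.singleton_subset_iff]
    by_contra hgq
    have hIq : I ≤ q.asIdeal := (PrimeSpectrum.mem_zeroLocus _ _).mp (hZ ▸ subset_closure hq)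
    obtain ⟨μ, hμ, hμq⟩ := Ideal.exists_minimalPrimes_le hIq
    by_cases hμη : μ = η
    · refine hq (hUS ⟨hfU (fun hfq => hgq (q.asIdeal.mul_mem_right _ hfq)), ?_⟩)
      rw [PrimeSpectrum.mem_zeroLocus]
      exact (hμη ▸ hμq : η ≤ q.asIdeal)
    · have hPo : μ ∈ others := Finset.mem_erase.mpr ⟨hμη, (Set.Finite.mem_toFinset _).mpr hμ⟩
      obtain ⟨d, hd⟩ : c ⟨μ, hPo⟩ ∣ ∏ P, c P := Finset.dvd_prod_of_mem c (Finset.mem_univ _)
      exact hgq (q.asIdeal.mul_mem_left _ (hd ▸ q.asIdeal.mul_mem_right _ (hμq (hc ⟨μ, hPo⟩))))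
  have h1 : g ∈ I := (PrimeSpectrum.mem_vanishingIdeal _ _).mpr fun q hq => by
    simpa using hclosed hq
  exact hg (hη.1.2 h1)

/-- Heights add up along a prime. -/
theorem height_add_height_quotient_le {R : Type u} [CommRing R] (P : Ideal R) [P.IsPrime]
    (q : Ideal (R ⧸ P)) [q.IsPrime] : P.height + q.height ≤ (q.comap (Ideal.Quotient.mk P)).height := by
  let g : PrimeSpectrum (R ⧸ P) → PrimeSpectrum R := fun x => ⟨x.asIdeal.comap (Ideal.Quotient.mk P), inferInstance⟩
  have hg : StrictMono g := fun x y hxy => lt_of_le_of_ne (Ideal.comap_mono hxy.le) fun heq => hxy.ne (PrimeSpectrum.ext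
    (Ideal.comap_injective_of_surjective _ Ideal.Quotient.mk_surjective (congrArg PrimeSpectrum.asIdeal heq)))
  have hP : ∀ x, (⟨P, inferInstance⟩ : PrimeSpectrum R) ≤ g x := fun x r hr => by
    show Ideal.Quotient.mk P r ∈ x.asIdeal
    rw [Ideal.Quotient.eq_zero_iff_mem.mpr hr]; exact zero_mem _
  have key : ∀ (k : ℕ) (x : PrimeSpectrum (R ⧸ P)), (k : ℕ∞) ≤ Order.height x →
      Order.height (⟨P, inferInstance⟩ : PrimeSpectrum R) + k ≤ Order.height (g x) := by
    intro k
    induction k with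
    | zero => intro x _; rw [Nat.cast_zero, add_zero]; exact Order.height_mono (hP x)
    | succ k ih =>
      intro x hx
      obtain ⟨l, hl, hlen⟩ := Order.exists_series_of_le_height x hx
      have hlt : l ⟨k, by omega⟩ < x := hl ▸ l.strictMono (Fin.mk_lt_mk.mpr (by omega))
      have hk : (k : ℕ∞) ≤ Order.height (l ⟨k, by omega⟩) := Order.index_le_height l ⟨k, by omega⟩
      rw [Nat.cast_succ, ← add_assoc]
      exact (add_le_add (ih _ hk) le_rfl).trans (Order.height_add_one_le (hg hlt))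
  rw [show P.height = _ from PrimeSpectrum.height_eq_orderHeight ⟨P, inferInstance⟩,
    show q.height = _ from PrimeSpectrum.height_eq_orderHeight ⟨q, inferInstance⟩,
    show (q.comap (Ideal.Quotient.mk P)).height = _ from PrimeSpectrum.height_eq_orderHeight (g ⟨q, inferInstance⟩)]
  cases hq : Order.height (⟨q, inferInstance⟩ : PrimeSpectrum (R ⧸ P)) with
  | top =>
    have : Order.height (g ⟨q, inferInstance⟩) = ⊤ := ENat.eq_top_iff_forall_ge.mpr fun m =>
      le_trans (le_add_self) (key m ⟨q, inferInstance⟩ (hq ▸ le_top))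
    rw [this]; exact le_top
  | coe n => exact key n ⟨q, inferInstance⟩ hq.ge

/-- A regular point `P` has a neighbourhood whose trace on `V(P)` is regular where `A ⧸ P` is regular. -/
theorem exists_basicOpen_regular {A : Type u} [CommRing A] [IsNoetherianRing A] (P : PrimeSpectrum A)
    (hP : P ∈ EGA4.regLocus A) :
    ∃ s ∉ P.asIdeal, ∀ Q : PrimeSpectrum A, s ∉ Q.asIdeal → ∀ hPQ : P.asIdeal ≤ Q.asIdeal,
      (∀ q : PrimeSpectrum (A ⧸ P.asIdeal), q.asIdeal.comap (Ideal.Quotient.mk P.asIdeal) = Q.asIdeal →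
        q ∈ EGA4.regLocus (A ⧸ P.asIdeal)) → Q ∈ EGA4.regLocus A := by
  classical
  let T := Localization.AtPrime P.asIdeal
  haveI : IsRegularLocalRing T := hP
  obtain ⟨G, hGcard, hGspan⟩ := Submodule.FG.exists_span_finset_card_eq_spanFinrank (IsNoetherian.noetherian (maximalIdeal T))
  -- generators in `P`
  have hlift : ∀ t : G, ∃ x ∈ P.asIdeal, ∃ s : P.asIdeal.primeCompl, (t : T) * algebraMap A T s = algebraMap A T x := by
    intro t
    obtain ⟨⟨x, s⟩, hx⟩ := IsLocalization.surj P.asIdeal.primeCompl (t : T)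
    refine ⟨x, ?_, s, hx⟩
    have ht : (t : T) ∈ maximalIdeal T := hGspan ▸ Submodule.subset_span t.2
    rw [← IsLocalization.AtPrime.to_map_mem_maximal_iff T P.asIdeal, ← hx]
    exact Ideal.mul_mem_right _ _ ht
  choose x hx σ hσ using hlift
  let J : Ideal A := Ideal.span (Set.range x)
  have hJle : J ≤ P.asIdeal := Ideal.span_le.mpr (Set.range_subset_iff.mpr hx)
  have hJT : P.asIdeal.map (algebraMap A T) ≤ J.map (algebraMap A T) := by
    rw [Localization.AtPrime.map_eq_maximalIdeal, ← hGspan]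
    refine Submodule.span_le.mpr fun t ht => ?_
    have h1 : (t : T) * algebraMap A T (σ ⟨t, ht⟩) ∈ J.map (algebraMap A T) := by
      rw [hσ ⟨t, ht⟩]; exact Ideal.mem_map_of_mem _ (Ideal.subset_span ⟨_, rfl⟩)
    exact (Ideal.mul_unit_mem_iff_mem _ (IsLocalization.map_units T (σ ⟨t, ht⟩))).mp h1
  have hclear : ∀ p : P.asIdeal, ∃ s ∉ P.asIdeal, s * (p : A) ∈ J := fun p => by
    obtain ⟨⟨j, s⟩, hj⟩ := (IsLocalization.mem_map_algebraMap_iff P.asIdeal.primeCompl T).mp
      (hJT (Ideal.mem_map_of_mem _ p.2))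
    rw [← map_mul] at hj
    obtain ⟨c, hc⟩ := IsLocalization.exists_of_eq (M := P.asIdeal.primeCompl) hj
    refine ⟨(c : A) * s, P.asIdeal.primeCompl.mul_mem c.2 s.2, ?_⟩
    rw [mul_assoc, mul_comm (s : A) (p : A), hc]
    exact J.mul_mem_left _ j.2
  choose s hs hsJ using hclear
  obtain ⟨gens, hgens⟩ := (IsNoetherian.noetherian P.asIdeal : P.asIdeal.FG)
  let S := ∏ p : gens, s ⟨p.1, hgens ▸ Submodule.subset_span p.2⟩
  have hS : S ∉ P.asIdeal := fun hmem => by
    obtain ⟨p, -, hp⟩ := (Ideal.IsPrime.prod_mem_iff (p := P.asIdeal)).mp hmem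
    exact hs _ hp
  have hSJ : ∀ p ∈ P.asIdeal, S * p ∈ J := fun p hp => by
    rw [← hgens] at hp
    induction hp using Submodule.span_induction with
    | mem p hp =>
      obtain ⟨d, hd⟩ : s ⟨p, hgens ▸ Submodule.subset_span hp⟩ ∣ S :=
        Finset.dvd_prod_of_mem (fun p : gens => s ⟨p.1, hgens ▸ Submodule.subset_span p.2⟩) (Finset.mem_univ ⟨p, hp⟩)
      rw [hd, mul_right_comm]
      exact J.mul_mem_right _ (hsJ _)
    | zero => rw [mul_zero]; exact zero_mem _
    | add a b _ _ ha hb => rw [mul_add]; exact add_mem ha hb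
    | smul c a _ ha => rw [smul_eq_mul, mul_left_comm]; exact J.mul_mem_left _ ha
  refine ⟨S, hS, fun Q hSQ hPQ hreg => ?_⟩
  let q : Ideal (A ⧸ P.asIdeal) := Q.asIdeal.map (Ideal.Quotient.mk P.asIdeal)
  have hqc : q.comap (Ideal.Quotient.mk P.asIdeal) = Q.asIdeal := by
    rw [Ideal.comap_map_of_surjective _ Ideal.Quotient.mk_surjective, ← RingHom.ker_eq_comap_bot, Ideal.mk_ker]
    exact sup_eq_left.mpr hPQ
  haveI : q.IsPrime := Ideal.map_isPrime_of_surjective Ideal.Quotient.mk_surjective (by rwa [Ideal.mk_ker])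
  let B := Localization.AtPrime q
  haveI : IsRegularLocalRing B := hreg ⟨q, inferInstance⟩ hqc
  let U := Localization.AtPrime Q.asIdeal
  show IsRegularLocalRing U
  let π : U →+* B := Localization.localRingHom Q.asIdeal q (Ideal.Quotient.mk P.asIdeal) hqc.symm
  have hπm : ∀ a, π (algebraMap A U a) = algebraMap (A ⧸ P.asIdeal) B (Ideal.Quotient.mk P.asIdeal a) :=
    fun a => Localization.localRingHom_to_map ..
  obtain ⟨G₂, hG₂card, hG₂span⟩ :=
    Submodule.FG.exists_span_finset_card_eq_spanFinrank (IsNoetherian.noetherian (maximalIdeal B))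
  have hlift₂ : ∀ t : G₂, ∃ y ∈ Q.asIdeal, ∃ w : (A ⧸ P.asIdeal), w ∉ q ∧
      (t : B) * algebraMap _ B w = algebraMap _ B (Ideal.Quotient.mk P.asIdeal y) := by
    intro t
    obtain ⟨⟨y, w⟩, hy⟩ := IsLocalization.surj q.primeCompl (t : B)
    obtain ⟨y, rfl⟩ := Ideal.Quotient.mk_surjective y
    refine ⟨y, ?_, w, w.2, hy⟩
    rw [← hqc, Ideal.mem_comap, ← IsLocalization.AtPrime.to_map_mem_maximal_iff B q, ← hy]
    exact Ideal.mul_mem_right _ _ (hG₂span ▸ Submodule.subset_span t.2)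
  choose y hy w hw hwy using hlift₂
  let gen : G ⊕ G₂ → U := Sum.elim (fun t => algebraMap A U (x t)) fun t => algebraMap A U (y t)
  let M : Ideal U := Ideal.span (Set.range gen)
  have hSu : IsUnit (algebraMap A U S) := IsLocalization.map_units U (⟨S, hSQ⟩ : Q.asIdeal.primeCompl)
  have hPM : ∀ p ∈ P.asIdeal, algebraMap A U p ∈ M := fun p hp => by
    refine (Ideal.unit_mul_mem_iff_mem _ hSu).mp ?_
    rw [← map_mul]
    have : J.map (algebraMap A U) ≤ M := by
      rw [Ideal.map_span, Ideal.span_le]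
      rintro _ ⟨_, ⟨t, rfl⟩, rfl⟩
      exact Ideal.subset_span ⟨Sum.inl t, rfl⟩
    exact this (Ideal.mem_map_of_mem _ (hSJ p hp))
  have hQM : ∀ a ∈ Q.asIdeal, algebraMap A U a ∈ M := fun a ha => by
    have h1 : algebraMap (A ⧸ P.asIdeal) B (Ideal.Quotient.mk _ a) ∈
        Ideal.map (algebraMap (A ⧸ P.asIdeal) B) (Ideal.span (Set.range fun t : G₂ => Ideal.Quotient.mk P.asIdeal (y t))) := by
      have hle : maximalIdeal B ≤ Ideal.map (algebraMap (A ⧸ P.asIdeal) B)
          (Ideal.span (Set.range fun t : G₂ => Ideal.Quotient.mk P.asIdeal (y t))) := by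
        rw [← hG₂span]
        refine Submodule.span_le.mpr fun t ht => ?_
        refine (Ideal.mul_unit_mem_iff_mem _
          (IsLocalization.map_units B (⟨w ⟨t, ht⟩, hw ⟨t, ht⟩⟩ : q.primeCompl))).mp ?_
        rw [hwy ⟨t, ht⟩]
        exact Ideal.mem_map_of_mem _ (Ideal.subset_span ⟨_, rfl⟩)
      refine hle ?_
      rw [IsLocalization.AtPrime.to_map_mem_maximal_iff B q]
      exact Ideal.mem_map_of_mem _ ha
    obtain ⟨⟨j, c⟩, hjc⟩ := (IsLocalization.mem_map_algebraMap_iff q.primeCompl B).mp h1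
    rw [← map_mul] at hjc
    obtain ⟨d, hd⟩ := IsLocalization.exists_of_eq (M := q.primeCompl) hjc
    obtain ⟨c', hc'⟩ := Ideal.Quotient.mk_surjective (c : A ⧸ P.asIdeal)
    obtain ⟨d', hd'⟩ := Ideal.Quotient.mk_surjective (d : A ⧸ P.asIdeal)
    have hj' : (j : A ⧸ P.asIdeal) ∈ (Ideal.span (Set.range y)).map (Ideal.Quotient.mk P.asIdeal) := by
      rw [Ideal.map_span, ← Set.range_comp]; exact j.2
    obtain ⟨j', hj'', hjj⟩ := (Ideal.mem_map_iff_of_surjective _ Ideal.Quotient.mk_surjective).mp hj'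
    have hmem : d' * (a * c') - d' * j' ∈ P.asIdeal := Ideal.Quotient.eq.mp (by
      rw [map_mul, map_mul, map_mul, hd', hc', hjj]; exact hd)
    have hd'Q : d' ∉ Q.asIdeal := fun hmem' => d.2 (hd' ▸ Ideal.mem_map_of_mem _ hmem')
    have hc'Q : c' ∉ Q.asIdeal := fun hmem' => c.2 (hc' ▸ Ideal.mem_map_of_mem _ hmem')
    refine (Ideal.unit_mul_mem_iff_mem _ (IsLocalization.map_units U
      (⟨d' * c', Q.asIdeal.primeCompl.mul_mem hd'Q hc'Q⟩ : Q.asIdeal.primeCompl))).mp ?_
    have hjM : algebraMap A U j' ∈ M := by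
      have : (Ideal.span (Set.range y)).map (algebraMap A U) ≤ M := by
        rw [Ideal.map_span, Ideal.span_le]
        rintro _ ⟨_, ⟨t, rfl⟩, rfl⟩
        exact Ideal.subset_span ⟨Sum.inr t, rfl⟩
      exact this (Ideal.mem_map_of_mem _ hj'')
    rw [← map_mul, show d' * c' * a = (d' * (a * c') - d' * j') + d' * j' by ring, map_add, map_mul _ d' j']
    exact add_mem (hPM _ hmem) (Ideal.mul_mem_left _ _ hjM)
  have hmax : maximalIdeal U = M := by
    refine le_antisymm ?_ (Ideal.span_le.mpr ?_)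
    · rw [← Localization.AtPrime.map_eq_maximalIdeal, Ideal.map_le_iff_le_comap]
      exact hQM
    · rintro _ ⟨t | t, rfl⟩
      · exact (IsLocalization.AtPrime.to_map_mem_maximal_iff U Q.asIdeal _).mpr (hPQ (hx t))
      · exact (IsLocalization.AtPrime.to_map_mem_maximal_iff U Q.asIdeal _).mpr (hy t)
  refine IsRegularLocalRing.of_spanFinrank_maximalIdeal_le U ?_
  have hcard : (maximalIdeal U).spanFinrank ≤ (maximalIdeal T).spanFinrank + (maximalIdeal B).spanFinrank := by
    rw [hmax, ← hGcard, ← hG₂card]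
    refine (Submodule.spanFinrank_span_le_ncard_of_finite (Set.finite_range gen)).trans ?_
    rw [← Nat.card_coe_set_eq]
    refine (Finite.card_range_le gen).trans ?_
    simp [Nat.card_eq_fintype_card, Fintype.card_sum]
  have hT : ((maximalIdeal T).spanFinrank : WithBot ℕ∞) = P.asIdeal.height := by
    rw [IsRegularLocalRing.spanFinrank_maximalIdeal, IsLocalization.AtPrime.ringKrullDim_eq_height P.asIdeal T]
  have hB : ((maximalIdeal B).spanFinrank : WithBot ℕ∞) = q.height := by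
    rw [IsRegularLocalRing.spanFinrank_maximalIdeal, IsLocalization.AtPrime.ringKrullDim_eq_height q B]
  rw [IsLocalization.AtPrime.ringKrullDim_eq_height Q.asIdeal U]
  calc (((maximalIdeal U).spanFinrank : ℕ) : WithBot ℕ∞)
      ≤ (((maximalIdeal T).spanFinrank + (maximalIdeal B).spanFinrank : ℕ) : WithBot ℕ∞) := by exact_mod_cast hcard
    _ = ((P.asIdeal.height + q.height : ℕ∞) : WithBot ℕ∞) := by
        rw [Nat.cast_add, hT, hB, WithBot.coe_add]
    _ ≤ (Q.asIdeal.height : WithBot ℕ∞) := by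
        rw [← hqc]; exact_mod_cast height_add_height_quotient_le P.asIdeal q

/-- Openness from the quotients by primes. -/
theorem isOpen_regLocus_of_quotients {A : Type u} [CommRing A] [IsNoetherianRing A]
    (h : ∀ p : PrimeSpectrum A, p ∈ EGA4.regLocus A →
      ∃ U : Set (PrimeSpectrum (A ⧸ p.asIdeal)), IsOpen U ∧ U.Nonempty ∧ U ⊆ EGA4.regLocus (A ⧸ p.asIdeal)) :
    IsOpen (EGA4.regLocus A) := by
  refine isOpen_of_nhds_in_closure mem_regLocus_of_le fun P hP => ?_
  obtain ⟨s, hs, hsreg⟩ := exists_basicOpen_regular P hP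
  obtain ⟨U, hU, ⟨u, hu⟩, hUreg⟩ := h P hP
  obtain ⟨_, ⟨t, rfl⟩, hut, htU⟩ := PrimeSpectrum.isTopologicalBasis_basic_opens.exists_subset_of_mem_open hu hU
  obtain ⟨t, rfl⟩ := Ideal.Quotient.mk_surjective t
  refine ⟨PrimeSpectrum.basicOpen (s * t), (PrimeSpectrum.basicOpen (s * t)).isOpen, ?_, ?_⟩
  · intro hmem
    rcases P.2.mem_or_mem hmem with h1 | h1
    · exact hs h1
    · exact hut (by rw [Ideal.Quotient.eq_zero_iff_mem.mpr h1]; exact zero_mem _)
  · rintro Q ⟨hQ, hPQ⟩
    rw [PrimeSpectrum.mem_zeroLocus] at hPQ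
    refine hsreg Q (fun h1 => hQ (Q.asIdeal.mul_mem_right t h1)) hPQ fun q hq => hUreg (htU fun h1 => hQ ?_)
    exact Q.asIdeal.mul_mem_left s (hq.le h1)

end Groth.Agent.RegLocus
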