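import Groth.Agent.RegLocus.J2
import Groth.Agent.RegLoc.Normal
import Mathlib.RingTheory.Ideal.AssociatedPrime.Finiteness
import Mathlib.RingTheory.Localization.Integral

/-!
# Openness of the normal locus
-/

set_option autoImplicit false
set_option linter.style.haveILetI false
universe u

namespace Groth.Agent.RegLocus

open EGA4

/-- A non vanishing element has an associated prime between its annihilator and a given prime. -/
theorem exists_associatedPrime_le {R M : Type u} [CommRing R] [IsNoetherianRing R] [AddCommGroup M] [Module R M]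
    (x : M) {Q : Ideal R} [Q.IsPrime] (hx : (⊥ : Submodule R M).colon {x} ≤ Q) :
    ∃ P : Ideal R, IsAssociatedPrime P M ∧ (⊥ : Submodule R M).colon {x} ≤ P ∧ P ≤ Q := by
  obtain ⟨P, ⟨l, hPQ, y, rfl⟩, hmax⟩ := set_has_maximal_iff_noetherian.mpr ‹IsNoetherianRing R›
    { P | (⊥ : Submodule R M).colon {x} ≤ P ∧ P ≤ Q ∧ ∃ y : M, P = (⊥ : Submodule R M).colon {y} }
    ⟨_, le_rfl, hx, x, rfl⟩
  refine ⟨_, isAssociatedPrime_iff.mpr ⟨⟨fun h => (inferInstance : Q.IsPrime).ne_top (top_le_iff.mp (h ▸ hPQ)), ?_⟩, y, rfl⟩,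
    l, hPQ⟩
  intro a b hab
  rw [or_iff_not_imp_left]
  intro ha
  by_cases hsub : (⊥ : Submodule R M).colon {a • y} ≤ Q
  · have H₁ : (⊥ : Submodule R M).colon {y} ≤ (⊥ : Submodule R M).colon {a • y} := fun c hc => by
      rw [Submodule.mem_colon_singleton, Submodule.mem_bot] at hc ⊢
      rw [smul_comm, hc, smul_zero]
    rw [H₁.eq_of_not_lt (hmax _ ⟨l.trans H₁, hsub, _, rfl⟩), Submodule.mem_colon_singleton, Submodule.mem_bot,
      smul_smul, mul_comm]
    simpa [Submodule.mem_colon_singleton] using hab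
  · obtain ⟨s, hs, hsQ⟩ := SetLike.not_le_iff_exists.mp hsub
    have H₁ : (⊥ : Submodule R M).colon {y} ≤ (⊥ : Submodule R M).colon {s • y} := fun c hc => by
      rw [Submodule.mem_colon_singleton, Submodule.mem_bot] at hc ⊢
      rw [smul_comm, hc, smul_zero]
    have h2 : (⊥ : Submodule R M).colon {s • y} ≤ Q := fun c hc => by
      have : c * s ∈ (⊥ : Submodule R M).colon {y} := by
        rw [Submodule.mem_colon_singleton, Submodule.mem_bot] at hc ⊢
        rw [mul_smul, hc]
      exact ((inferInstance : Q.IsPrime).mem_or_mem (hPQ this)).resolve_right hsQ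
    refine absurd ?_ ha
    rw [H₁.eq_of_not_lt (hmax _ ⟨l.trans H₁, h2, _, rfl⟩), Submodule.mem_colon_singleton, Submodule.mem_bot, smul_comm]
    simpa [Submodule.mem_colon_singleton] using hs

/-- Normality at `p`, inside the fraction field. -/
def NormalAt (B : Type u) [CommRing B] (p : Ideal B) : Prop :=
  ∀ x : FractionRing B, IsIntegral B x → ∃ t ∉ p, ∃ c : B, algebraMap B (FractionRing B) t * x = algebraMap B (FractionRing B) c

theorem mem_norLocus_iff {B : Type u} [CommRing B] [IsDomain B] (Q : PrimeSpectrum B) :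
    Q ∈ norLocus B ↔ NormalAt B Q.asIdeal := by
  let T := Localization.AtPrime Q.asIdeal
  let K := FractionRing B
  have hle : Q.asIdeal.primeCompl ≤ nonZeroDivisors B := Ideal.primeCompl_le_nonZeroDivisors _
  have hu : ∀ s : Q.asIdeal.primeCompl, IsUnit (algebraMap B K s) := fun s =>
    IsLocalization.map_units K (⟨s, hle s.2⟩ : nonZeroDivisors B)
  letI : Algebra T K := (IsLocalization.lift (S := T) hu).toAlgebra
  haveI : IsScalarTower B T K := IsScalarTower.of_algebraMap_eq fun b => (IsLocalization.lift_eq hu b).symm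
  haveI : IsFractionRing T K := IsFractionRing.isFractionRing_of_isDomain_of_isLocalization Q.asIdeal.primeCompl T K
  haveI : IsDomain T := IsLocalization.isDomain_localization hle
  refine ⟨fun h x hx => ?_, fun h => ⟨inferInstance, (isIntegrallyClosed_iff K).mpr fun {z} hz => ?_⟩⟩
  · haveI : IsIntegrallyClosed T := h.2
    obtain ⟨w, hw⟩ := IsIntegrallyClosed.algebraMap_eq_of_integral (R := T) (K := K) (hx.tower_top (A := T))
    obtain ⟨⟨c, s⟩, hcs⟩ := IsLocalization.surj Q.asIdeal.primeCompl w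
    refine ⟨s, s.2, c, ?_⟩
    have := congrArg (algebraMap T K) hcs
    rw [map_mul, ← IsScalarTower.algebraMap_apply, ← IsScalarTower.algebraMap_apply, hw] at this
    rw [mul_comm]
    exact this
  · obtain ⟨m, hm⟩ := IsIntegral.exists_multiple_integral_of_isLocalization Q.asIdeal.primeCompl z hz
    rw [Submonoid.smul_def, Algebra.smul_def] at hm
    obtain ⟨t, ht, c, hc⟩ := h _ hm
    refine ⟨IsLocalization.mk' T c (⟨t, ht⟩ * m), ?_⟩
    have h0 : algebraMap B K ((⟨t, ht⟩ * m : Q.asIdeal.primeCompl) : B) ≠ 0 := (hu _).ne_zero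
    apply mul_left_cancel₀ h0
    rw [IsScalarTower.algebraMap_apply B T K, ← map_mul, IsLocalization.mk'_spec', ← IsScalarTower.algebraMap_apply,
      ← IsScalarTower.algebraMap_apply, Submonoid.coe_mul, map_mul, mul_assoc, hc]

theorem NormalAt.of_le {B : Type u} [CommRing B] {p q : Ideal B} (hpq : p ≤ q) (h : NormalAt B q) : NormalAt B p :=
  fun x hx => by
    obtain ⟨t, ht, c, hc⟩ := h x hx
    exact ⟨t, fun h1 => ht (hpq h1), c, hc⟩

/-- Normality away from `f` and at the associated primes of `B/fB` gives normality. -/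
theorem normalAt_of_associated {B : Type u} [CommRing B] [IsDomain B] [IsNoetherianRing B] {f : B} (hf0 : f ≠ 0)
    (hf : ∀ p : Ideal B, p.IsPrime → f ∉ p → NormalAt B p) {Q : Ideal B} [Q.IsPrime]
    (hQ : ∀ p : Ideal B, IsAssociatedPrime p (B ⧸ Ideal.span {f}) → p ≤ Q → NormalAt B p) : NormalAt B Q := by
  intro x hx
  let φ := algebraMap B (FractionRing B)
  have hinj : Function.Injective φ := IsFractionRing.injective B (FractionRing B)
  let I : Ideal B := Submodule.comap (LinearMap.toSpanSingleton B (FractionRing B) x) (Submodule.span B {1})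
  have hI : ∀ t, t ∈ I ↔ ∃ c : B, φ t * x = φ c := fun t => by
    simp [I, Submodule.mem_comap, Submodule.mem_span_singleton, Algebra.smul_def, φ, eq_comm]
  -- some power of `f` is a denominator
  have hn : ∃ n : ℕ, ∃ s ∉ Q, s * f ^ n ∈ I := by
    by_contra hcon
    push Not at hcon
    let M : Submonoid B := Q.primeCompl ⊔ Submonoid.powers f
    obtain ⟨P, hP, hIP, hPM⟩ := Ideal.exists_le_prime_disjoint I M (Set.disjoint_left.mpr fun a ha haM => by
      obtain ⟨s, hs, _, ⟨n, rfl⟩, rfl⟩ := Submonoid.mem_sup.mp haM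
      exact hcon n s hs ha)
    have hfP : f ∉ P := fun h => Set.disjoint_left.mp hPM h ((le_sup_right : Submonoid.powers f ≤ M) ⟨1, pow_one f⟩)
    obtain ⟨t, ht, c, hc⟩ := hf P hP hfP x hx
    exact ht (hIP ((hI t).mpr ⟨c, hc⟩))
  obtain ⟨n, hn⟩ := hn
  induction n with
  | zero =>
    obtain ⟨s, hs, h1⟩ := hn
    rw [pow_zero, mul_one] at h1
    exact ⟨s, hs, (hI s).mp h1⟩
  | succ n ih =>
    apply ih
    obtain ⟨s, hs, h1⟩ := hn
    obtain ⟨a, ha⟩ := (hI _).mp h1
    by_cases hJ : (⊥ : Submodule B (B ⧸ Ideal.span {f})).colon {Ideal.Quotient.mk (Ideal.span {f}) a} ≤ Q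
    · exfalso
      obtain ⟨p, hp, hJp, hpQ⟩ := exists_associatedPrime_le _ hJ
      haveI := hp.isPrime
      obtain ⟨t, ht, c, hc⟩ := hQ p hp hpQ x hx
      refine ht (hJp ?_)
      rw [Submodule.mem_colon_singleton, Submodule.mem_bot]
      change Ideal.Quotient.mk (Ideal.span {f}) (t * a) = 0
      rw [Ideal.Quotient.eq_zero_iff_mem, Ideal.mem_span_singleton']
      refine ⟨s * f ^ n * c, hinj ?_⟩
      simp only [map_mul, map_pow]
      rw [show φ s * φ f ^ n * φ c * φ f = φ (s * f ^ (n + 1)) * φ c by simp [pow_succ]; ring, ← hc, ← ha]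
      ring
    · obtain ⟨t, ht, htQ⟩ := SetLike.not_le_iff_exists.mp hJ
      rw [Submodule.mem_colon_singleton, Submodule.mem_bot] at ht
      change Ideal.Quotient.mk (Ideal.span {f}) (t * a) = 0 at ht
      rw [Ideal.Quotient.eq_zero_iff_mem, Ideal.mem_span_singleton'] at ht
      obtain ⟨b, hb⟩ := ht
      refine ⟨t * s, fun h => ((inferInstance : Q.IsPrime).mem_or_mem h).elim htQ hs, (hI _).mpr ⟨b, ?_⟩⟩
      apply mul_left_cancel₀ (a := φ f) (by simpa [φ] using (map_ne_zero_iff φ hinj).mpr hf0)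
      calc φ f * (φ (t * s * f ^ n) * x) = φ t * (φ (s * f ^ (n + 1)) * x) := by simp [pow_succ]; ring
        _ = φ t * φ a := by rw [ha]
        _ = φ f * φ b := by rw [← map_mul, ← map_mul, ← hb, mul_comm]

/-- In a domain, openness of the regular locus gives openness of the normal locus. -/
theorem isOpen_norLocus_of_isDomain {B : Type u} [CommRing B] [IsDomain B] [IsNoetherianRing B]
    (h : IsOpen (regLocus B)) : IsOpen (norLocus B) := by
  obtain ⟨f, hf0, hf⟩ := exists_ne_zero_of_isOpen h
  have hf' : ∀ p : Ideal B, p.IsPrime → f ∉ p → NormalAt B p := fun p hp hfp => by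
    have hreg : IsRegularLocalRing (Localization.AtPrime p) := hf ⟨p, hp⟩ hfp
    exact (mem_norLocus_iff ⟨p, hp⟩).mp
      ⟨IsLocalization.isDomain_localization (Ideal.primeCompl_le_nonZeroDivisors p), RegLoc.isIntegrallyClosed⟩
  rw [← isClosed_compl_iff]
  have hbad : (norLocus B)ᶜ = ⋃ p ∈ {p : Ideal B | p ∈ associatedPrimes B (B ⧸ Ideal.span {f}) ∧ ¬ NormalAt B p},
      PrimeSpectrum.zeroLocus (p : Set B) := by
    ext Q
    simp only [Set.mem_compl_iff, mem_norLocus_iff, Set.mem_iUnion, Set.mem_setOf_eq, PrimeSpectrum.mem_zeroLocus,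
      SetLike.coe_subset_coe, exists_prop]
    refine ⟨fun hQ => ?_, fun ⟨p, ⟨_, hp⟩, hpQ⟩ hQ => hp (hQ.of_le hpQ)⟩
    by_contra hcon
    push Not at hcon
    refine hQ (normalAt_of_associated hf0 hf' fun p hp hpQ => ?_)
    by_contra hp'
    exact hcon p ⟨hp, hp'⟩ hpQ
  rw [hbad]
  exact ((associatedPrimes.finite B (B ⧸ Ideal.span {f})).subset fun p hp => hp.1).isClosed_biUnion fun p _ =>
    PrimeSpectrum.isClosed_zeroLocus _

/-- Near a point with a domain as local ring, a Noetherian ring is a domain. -/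
theorem exists_isDomain_away {A : Type u} [CommRing A] [IsNoetherianRing A] (P : PrimeSpectrum A)
    [IsDomain (Localization.AtPrime P.asIdeal)] : ∃ g : A, g ∉ P.asIdeal ∧ IsDomain (Localization.Away g) := by
  let T := Localization.AtPrime P.asIdeal
  let p0 := RingHom.ker (algebraMap A T)
  obtain ⟨S, hS⟩ : p0.FG := IsNoetherian.noetherian p0
  have h1 : ∀ z : S, ∃ s : P.asIdeal.primeCompl, (s : A) * z = 0 := fun z => by
    have hz : (z : A) ∈ p0 := hS ▸ Ideal.subset_span z.2
    exact (IsLocalization.map_eq_zero_iff P.asIdeal.primeCompl T (z : A)).mp hz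
  choose s hs using h1
  let g : A := ∏ z : S, (s z : A)
  have hg : g ∉ P.asIdeal := (Submonoid.prod_mem P.asIdeal.primeCompl fun z _ => (s z).2 : g ∈ P.asIdeal.primeCompl)
  have hkill : ∀ z ∈ p0, g * z = 0 := by
    intro z hz
    rw [← hS] at hz
    induction hz using Submodule.span_induction with
    | mem z hz =>
      obtain ⟨e, he⟩ : (s ⟨z, hz⟩ : A) ∣ g := Finset.dvd_prod_of_mem (fun z : S => (s z : A)) (Finset.mem_univ (⟨z, hz⟩ : S))
      rw [he, mul_comm (s ⟨z, hz⟩ : A), mul_assoc, hs ⟨z, hz⟩, mul_zero]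
    | zero => rw [mul_zero]
    | add x y _ _ hx hy => rw [mul_add, hx, hy, add_zero]
    | smul a x _ hx => rw [smul_eq_mul, mul_left_comm, hx, mul_zero]
  refine ⟨g, hg, ?_⟩
  let L := Localization.Away g
  have hu : IsUnit (algebraMap A T g) := IsLocalization.map_units T (⟨g, hg⟩ : P.asIdeal.primeCompl)
  let ψ : L →+* T := IsLocalization.Away.lift g hu
  have hψ : Function.Injective ψ := by
    rw [injective_iff_map_eq_zero]
    intro z hz
    obtain ⟨⟨a, m⟩, rfl⟩ : ∃ y : A × Submonoid.powers g, IsLocalization.mk' L y.1 y.2 = z := by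
      obtain ⟨a, m, h⟩ := IsLocalization.exists_mk'_eq (Submonoid.powers g) z
      exact ⟨⟨a, m⟩, h⟩
    have h2 : ψ (IsLocalization.mk' L a m * algebraMap A L m) = 0 := by rw [map_mul, hz, zero_mul]
    rw [IsLocalization.mk'_spec, IsLocalization.Away.lift_eq] at h2
    rw [IsLocalization.mk'_eq_zero_iff]
    exact ⟨⟨g, 1, pow_one g⟩, hkill a h2⟩
  haveI : Nontrivial L := ψ.domain_nontrivial
  exact hψ.isDomain ψ

theorem isRegularLocalRing_iff_away {A : Type u} [CommRing A] (g : A) (Q : PrimeSpectrum (Localization.Away g)) :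
    Nonempty (Localization.AtPrime Q.asIdeal ≃+*
      Localization.AtPrime (PrimeSpectrum.comap (algebraMap A (Localization.Away g)) Q).asIdeal) := by
  haveI : IsLocalization.AtPrime (Localization.AtPrime Q.asIdeal)
      (PrimeSpectrum.comap (algebraMap A (Localization.Away g)) Q).asIdeal :=
    IsLocalization.isLocalization_isLocalization_atPrime_isLocalization (Submonoid.powers g) (Localization.AtPrime Q.asIdeal) Q.asIdeal
  exact ⟨(IsLocalization.algEquiv (PrimeSpectrum.comap (algebraMap A (Localization.Away g)) Q).asIdeal.primeCompl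
    (Localization.AtPrime Q.asIdeal) (Localization.AtPrime (PrimeSpectrum.comap (algebraMap A (Localization.Away g)) Q).asIdeal)).toRingEquiv⟩

/-- Openness of the regular locus gives openness of the normal locus. -/
theorem isOpen_norLocus {A : Type u} [CommRing A] [IsNoetherianRing A] (h : IsOpen (regLocus A)) :
    IsOpen (norLocus A) := by
  refine isOpen_iff_forall_mem_open.mpr fun P hP => ?_
  haveI : IsDomain (Localization.AtPrime P.asIdeal) := hP.1
  obtain ⟨g, hg, hdom⟩ := exists_isDomain_away P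
  let L := Localization.Away g
  haveI : IsNoetherianRing L := IsLocalization.isNoetherianRing (Submonoid.powers g) L inferInstance
  have hreg : regLocus L = PrimeSpectrum.comap (algebraMap A L) ⁻¹' regLocus A := by
    ext Q
    obtain ⟨e⟩ := isRegularLocalRing_iff_away g Q
    exact ⟨fun h => haveI : IsRegularLocalRing (Localization.AtPrime Q.asIdeal) := h; IsRegularLocalRing.of_ringEquiv e,
      fun h => haveI : IsRegularLocalRing (Localization.AtPrime (PrimeSpectrum.comap (algebraMap A L) Q).asIdeal) := h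
        IsRegularLocalRing.of_ringEquiv e.symm⟩
  have hnor : ∀ Q, Q ∈ norLocus L ↔ PrimeSpectrum.comap (algebraMap A L) Q ∈ norLocus A := fun Q => by
    obtain ⟨e⟩ := isRegularLocalRing_iff_away g Q
    exact ⟨fun h => ⟨haveI := h.1; e.symm.injective.isDomain e.symm.toRingHom, haveI := h.2; IsIntegrallyClosed.of_equiv e⟩,
      fun h => ⟨haveI := h.1; e.injective.isDomain e.toRingHom, haveI := h.2; IsIntegrallyClosed.of_equiv e.symm⟩⟩
  have hopen : IsOpen (norLocus L) := isOpen_norLocus_of_isDomain (hreg ▸ h.preimage (PrimeSpectrum.continuous_comap _))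
  have hemb : Topology.IsOpenEmbedding (PrimeSpectrum.comap (algebraMap A L)) := PrimeSpectrum.localization_away_isOpenEmbedding L g
  refine ⟨PrimeSpectrum.comap (algebraMap A L) '' norLocus L, ?_, hemb.isOpenMap _ hopen, ?_⟩
  · rintro _ ⟨Q, hQ, rfl⟩
    exact (hnor Q).mp hQ
  · obtain ⟨Q, hQ⟩ : P ∈ Set.range (PrimeSpectrum.comap (algebraMap A L)) := by
      rw [PrimeSpectrum.localization_away_comap_range L g]; exact hg
    exact ⟨Q, (hnor Q).mpr (by rw [hQ]; exact hP), hQ⟩

end Groth.Agent.RegLocus
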