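import Groth.Agent.SyntLib.Open
import Groth.Agent.SyntLib.Fibre
import Groth.Agent.PurFib.Fibre
import Groth.Agent.FlatLift.RegSeq
import Groth.Agent.NoethPre.Main
import Groth.Agent.CMFlat.FiberRing
import Groth.Prelude.Def_CAlg
import Groth.Prelude.Def_EGA4b
/-!
The locus of regular sequences in Cohen–Macaulay fibres.
-/
set_option autoImplicit false
set_option linter.style.haveILetI false
set_option backward.isDefEq.respectTransparency false
universe u
open TensorProduct RingTheory.Sequence

namespace Groth.Agent.RegLocus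

variable {R S : Type u} [CommRing R] [CommRing S] [Algebra R S]

/-- The fibre local ring is the local ring of the fibre, compatibly with the maps from `S`. -/
theorem exists_fibLoc_equiv (q : Ideal S) [q.IsPrime] (Q : Ideal ((q.comap (algebraMap R S)).Fiber S)) [Q.IsPrime]
    (hQ : Q.comap (Algebra.TensorProduct.includeRight : S →ₐ[R] (q.comap (algebraMap R S)).Fiber S).toRingHom = q) :
    ∃ e : EGA4.FibLocRing R S q ≃+* Localization.AtPrime Q, ∀ x : S,
      e (algebraMap S (EGA4.FibLocRing R S q) x) = algebraMap ((q.comap (algebraMap R S)).Fiber S) (Localization.AtPrime Q)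
        ((Algebra.TensorProduct.includeRight : S →ₐ[R] (q.comap (algebraMap R S)).Fiber S).toRingHom x) := by
  set p := q.comap (algebraMap R S) with hp
  let inc : S →+* p.Fiber S := (Algebra.TensorProduct.includeRight : S →ₐ[R] p.Fiber S).toRingHom
  let ψ := Localization.localRingHom q Q inc hQ.symm
  have hu : ∀ r ∉ p, inc (algebraMap R S r) ∉ Q := fun r hr h => hr <| by
    rw [hp, Ideal.mem_comap, ← hQ]
    exact h
  have hsm : ∀ (r : R) (x : p.Fiber S), r • x = inc (algebraMap R S r) * x := fun r x => by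
    rw [Algebra.smul_def]
    exact congrArg (· * x) ((Algebra.TensorProduct.includeRight : S →ₐ[R] p.Fiber S).commutes r).symm
  have hsurj : Function.Surjective ψ := by
    intro z
    obtain ⟨a, s, rfl⟩ := IsLocalization.exists_mk'_eq Q.primeCompl z
    obtain ⟨r₁, hr₁, a', ha⟩ := Ideal.Fiber.exists_smul_eq_one_tmul p a
    obtain ⟨r₂, hr₂, s', hs⟩ := Ideal.Fiber.exists_smul_eq_one_tmul p (s : p.Fiber S)
    rw [hsm] at ha hs
    change _ = inc a' at ha
    change _ = inc s' at hs
    have hmem : s' * algebraMap R S r₁ ∈ q.primeCompl := by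
      intro h
      have h' : inc (s' * algebraMap R S r₁) ∈ Q := by
        rw [← Ideal.mem_comap, hQ]; exact h
      rw [map_mul, ← hs] at h'
      exact ((inferInstance : Q.IsPrime).mem_or_mem h').elim
        (fun h => ((inferInstance : Q.IsPrime).mem_or_mem h).elim (hu r₂ hr₂) s.2) (hu r₁ hr₁)
    refine ⟨IsLocalization.mk' _ (a' * algebraMap R S r₂) (⟨s' * algebraMap R S r₁, hmem⟩ : q.primeCompl), ?_⟩
    rw [Localization.localRingHom_mk']
    refine IsLocalization.mk'_eq_of_eq ?_
    show inc (s' * algebraMap R S r₁) * a = (s : p.Fiber S) * inc (a' * algebraMap R S r₂)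
    rw [map_mul, map_mul, ← ha, ← hs]
    ring
  have hker : RingHom.ker ψ = p.map (algebraMap R (Localization.AtPrime q)) := by
    refine le_antisymm (fun z hz => ?_) (Ideal.map_le_iff_le_comap.mpr fun r hr => ?_)
    · obtain ⟨x, s, rfl⟩ := IsLocalization.exists_mk'_eq q.primeCompl z
      rw [RingHom.mem_ker, Localization.localRingHom_mk', IsLocalization.mk'_eq_zero_iff] at hz
      obtain ⟨⟨m, hm⟩, hmx⟩ := hz
      obtain ⟨r, hr, m', hm'⟩ := Ideal.Fiber.exists_smul_eq_one_tmul p m
      rw [hsm] at hm'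
      change _ = inc m' at hm'
      have hm'q : m' ∉ q := fun h => ((inferInstance : Q.IsPrime).mem_or_mem
        (show inc (algebraMap R S r) * m ∈ Q by rw [hm', ← Ideal.mem_comap, hQ]; exact h)).elim (hu r hr) hm
      have h0 : inc (m' * x) ∈ (⊥ : Ideal S).map (Algebra.TensorProduct.includeRight : S →ₐ[R] p.Fiber S) := by
        rw [map_mul, ← hm', mul_assoc, show m * inc x = 0 from hmx, mul_zero]
        exact zero_mem _
      obtain ⟨r', hr', h'⟩ := PurFib.exists_mul_mem p ⊥ (m' * x) h0
      rw [bot_sup_eq] at h'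
      rw [IsScalarTower.algebraMap_eq R S (Localization.AtPrime q), ← Ideal.map_map, IsLocalization.mk'_mem_iff,
        IsLocalization.algebraMap_mem_map_algebraMap_iff q.primeCompl]
      refine ⟨algebraMap R S r' * m', q.primeCompl.mul_mem (fun h => hr' h) hm'q, ?_⟩
      rwa [mul_assoc]
    · rw [Ideal.mem_comap, RingHom.mem_ker, IsScalarTower.algebraMap_apply R S, Localization.localRingHom_to_map]
      have h0 : inc (algebraMap R S r) = 0 := by
        rw [show inc (algebraMap R S r) = algebraMap R (p.Fiber S) r from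
          (Algebra.TensorProduct.includeRight : S →ₐ[R] p.Fiber S).commutes r,
          IsScalarTower.algebraMap_apply R p.ResidueField (p.Fiber S), Ideal.algebraMap_residueField_eq_zero.2 hr,
          map_zero]
      rw [h0, map_zero]
  exact ⟨(Ideal.quotEquivOfEq hker.symm).trans (RingHom.quotientKerEquivOfSurjective hsurj),
    fun x => Localization.localRingHom_to_map q Q inc hQ.symm x⟩

theorem isRegular_map_ringEquiv {A B : Type u} [CommRing A] [CommRing B] (e : A ≃+* B) (rs : List A) :
    IsRegular A rs ↔ IsRegular B (rs.map e) :=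
  e.toAddEquiv.isRegular_congr <| List.forall₂_map_right_iff.mpr <|
    List.forall₂_same.mpr fun r _ x => map_mul e r x

theorem isRegular_iff_dim {T : Type u} [CommRing T]
    [LocCoh.IsCohenMacaulayLocalRing T] (rs : List T) (hrs : ∀ r ∈ rs, r ∈ IsLocalRing.maximalIdeal T)
    {T' : Type u} [CommRing T']
    (ψ : T →+* T') (hψ : Function.Surjective ψ) (hψker : RingHom.ker ψ = Ideal.ofList rs)
    (b b' : ℕ) (hb : ringKrullDim T = (b : WithBot ℕ∞)) (hT' : ringKrullDim T' = (b' : WithBot ℕ∞)) :
    b ≤ b' + rs.length ∧ (IsRegular T rs ↔ b' + rs.length ≤ b) := by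
  classical
  have hle : Ideal.ofList rs ≤ IsLocalRing.maximalIdeal T := Ideal.span_le.2 hrs
  have hb' : ringKrullDim (T ⧸ Ideal.ofList rs) = (b' : WithBot ℕ∞) :=
    (ringKrullDim_eq_of_ringEquiv ((Ideal.quotEquivOfEq hψker.symm).trans (RingHom.quotientKerEquivOfSurjective hψ))).trans hT'
  have h1 : b ≤ b' + rs.length := by
    have h := ringKrullDim_le_ringKrullDim_quotient_add_card rs.toFinset
      (by rw [IsLocalRing.ringJacobson_eq_maximalIdeal]; exact fun r hr => hrs r (List.mem_toFinset.1 hr))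
    rw [show Ideal.span ((rs.toFinset : Finset T) : Set T) = Ideal.ofList rs by
      rw [Ideal.ofList, List.coe_toFinset], hb, hb'] at h
    have h2 : b ≤ b' + rs.toFinset.card := by exact_mod_cast h
    exact h2.trans (Nat.add_le_add_left (List.toFinset_card_le rs) _)
  refine ⟨h1, fun h => ?_, fun h => ?_⟩
  · have h2 := ringKrullDim_add_length_eq_ringKrullDim_of_isRegular rs h
    rw [hb, hb'] at h2
    exact le_of_eq (by exact_mod_cast h2)
  · refine RingTheory.Sequence.IsRegular.of_isWeaklyRegular_of_mem_maximalIdeal (L := T) hrs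
      (FlatLift.isWeaklyRegular_of_dim_cm rs (fun ht => (IsLocalRing.maximalIdeal.isMaximal T).ne_top
        (top_le_iff.1 (ht ▸ hle))) ?_)
    rw [hb, hb']
    exact_mod_cast (show rs.length + b' = b by omega)

variable [Algebra.FiniteType R S] {A : Type u} [CommRing A] [Algebra R A] [Algebra.FiniteType R A]

theorem trdeg_quot_comap {K F G : Type u} [CommRing K] [CommRing F] [CommRing G] [Algebra K F] [Algebra K G]
    (φ : F →ₐ[K] G) (hφ : Function.Surjective φ) (Z : Ideal G) :
    Algebra.trdeg K (F ⧸ Z.comap φ.toRingHom) = Algebra.trdeg K (G ⧸ Z) :=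
  (AlgEquiv.ofRingEquiv (f := RingEquiv.ofBijective (Ideal.quotientMap Z φ.toRingHom le_rfl)
      ⟨Ideal.quotientMap_injective, Ideal.quotientMap_surjective hφ⟩)
    fun c => congrArg (Ideal.Quotient.mk Z) (φ.commutes c) :
    (F ⧸ Z.comap φ.toRingHom) ≃ₐ[K] G ⧸ Z).trdeg_eq

/-- Regularity in the fibre is a bound on the fibre dimension of the zero locus. -/
theorem isRegular_iff_fibreDimLE (d : ℕ)
    (hCM : ∀ p : PrimeSpectrum R, LocCoh.IsCohenMacaulayRing (p.asIdeal.Fiber S))
    (heq : ∀ p : PrimeSpectrum R, ∀ P ∈ minimalPrimes (p.asIdeal.Fiber S),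
      ringKrullDim (p.asIdeal.Fiber S ⧸ P) = (d : WithBot ℕ∞))
    (f : List S) (π : S →ₐ[R] A) (hπ : Function.Surjective π) (hker : RingHom.ker π.toRingHom = Ideal.ofList f)
    (z : PrimeSpectrum A) (q : Ideal S) [q.IsPrime] (hq : z.asIdeal.comap π.toRingHom = q) :
    IsRegular (EGA4.FibLocRing R S q) (f.map (algebraMap S (EGA4.FibLocRing R S q))) ↔
      f.length ≤ d ∧ z ∈ SyntLib.fibreDimLE R A (d - f.length) := by
  set p := q.comap (algebraMap R S) with hp
  have hzp : z.asIdeal.comap (algebraMap R A) = p := by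
    rw [hp, ← hq, Ideal.comap_comap]
    exact congrArg (Ideal.comap · z.asIdeal) π.comp_algebraMap.symm
  obtain ⟨Z, _, hZ⟩ := CMFlat.exists_prime_fiber z.asIdeal p hzp
  let κ := p.ResidueField
  let φ : p.Fiber S →ₐ[κ] p.Fiber A := Algebra.TensorProduct.map (AlgHom.id κ κ) π
  have hφ : Function.Surjective φ := LinearMap.lTensor_surjective κ (g := π.toLinearMap) hπ
  let Q := Z.comap φ.toRingHom
  haveI : Q.IsPrime := Ideal.IsPrime.comap _
  let incS : S →+* p.Fiber S := (Algebra.TensorProduct.includeRight : S →ₐ[R] p.Fiber S).toRingHom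
  let incA : A →+* p.Fiber A := (Algebra.TensorProduct.includeRight : A →ₐ[R] p.Fiber A).toRingHom
  have hcomm : φ.toRingHom.comp incS = incA.comp π.toRingHom := RingHom.ext fun s => by
    simp [φ, incS, incA]
  have hQ : Q.comap incS = q := by
    rw [Ideal.comap_comap, hcomm, ← Ideal.comap_comap]
    exact (congrArg (Ideal.comap π.toRingHom) hZ).trans hq
  obtain ⟨e, he⟩ := exists_fibLoc_equiv q Q hQ
  haveI : LocCoh.IsCohenMacaulayRing (p.Fiber S) := hCM ⟨p, inferInstance⟩
  haveI : LocCoh.IsCohenMacaulayLocalRing (Localization.AtPrime Q) :=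
    LocCoh.IsCohenMacaulayRing.isCohenMacaulayLocalRing_localization Q
  let g : List (Localization.AtPrime Q) := f.map fun x => algebraMap (p.Fiber S) (Localization.AtPrime Q) (incS x)
  have hgm : (f.map (algebraMap S (EGA4.FibLocRing R S q))).map e = g := by
    rw [List.map_map]
    exact List.map_congr_left fun x _ => he x
  refine (isRegular_map_ringEquiv (B := Localization.AtPrime Q) e _).trans ?_
  rw [hgm]
  have hg : ∀ r ∈ g, r ∈ IsLocalRing.maximalIdeal (Localization.AtPrime Q) := by
    intro r hr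
    obtain ⟨x, hx, rfl⟩ := List.mem_map.1 hr
    rw [← Localization.AtPrime.map_eq_maximalIdeal]
    refine Ideal.mem_map_of_mem _ ?_
    have hxq : x ∈ q := by
      rw [← hq, Ideal.mem_comap]
      have : x ∈ RingHom.ker π.toRingHom := hker ▸ Ideal.subset_span hx
      rw [RingHom.mem_ker.1 this]
      exact zero_mem _
    rw [← hQ] at hxq
    exact hxq
  -- dimensions in the fibre of `S`
  obtain ⟨b, δ, hb, hD, hδ⟩ := CMChart.localDim_primeSpectrum (k := κ) (⟨Q, inferInstance⟩ : PrimeSpectrum (p.Fiber S))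
  have hbd : b + δ = d := by
    obtain ⟨⟨P, hP, hPQ, hle⟩, hge⟩ := LocalDimBC.localDim_spec (k := κ) (⟨Q, inferInstance⟩ : PrimeSpectrum (p.Fiber S))
    have h := le_antisymm hle (hge P hP hPQ)
    rw [hD, heq ⟨p, inferInstance⟩ P hP] at h
    exact_mod_cast h
  -- dimensions in the fibre of `A`
  obtain ⟨b', δ', hb', hD', hδ'⟩ := CMChart.localDim_primeSpectrum (k := κ) (⟨Z, inferInstance⟩ : PrimeSpectrum (p.Fiber A))
  have hδδ : δ' = δ := by
    have h := trdeg_quot_comap φ hφ Z
    change Algebra.trdeg κ (p.Fiber S ⧸ Q) = _ at h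
    rw [NoethPre.trdeg_residueField, NoethPre.trdeg_residueField, hδ, hδ'] at h
    exact_mod_cast h.symm
  obtain ⟨ψ, hψ, hψker, -⟩ := SyntLib.exists_local_quot φ hφ Z
  have hkφ : RingHom.ker φ.toRingHom = Ideal.ofList (f.map incS) := by
    rw [← Ideal.map_ofList, ← hker]
    exact Algebra.TensorProduct.lTensor_ker (A := κ) π hπ
  have hk : RingHom.ker ψ.toRingHom = Ideal.ofList g := by
    rw [hψker, hkφ, Ideal.map_ofList, List.map_map]
    rfl
  obtain ⟨hlow, hiff⟩ := isRegular_iff_dim g hg ψ.toRingHom hψ hk b b' hb hb'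
  rw [hiff]
  have hlen : g.length = f.length := List.length_map _
  have hzc : PrimeSpectrum.comap incA ⟨Z, inferInstance⟩ = z := PrimeSpectrum.ext hZ
  have hmem : z ∈ SyntLib.fibreDimLE R A (d - f.length) ↔ b' + δ' ≤ d - f.length := by
    rw [← hzc]
    show FlatMor.fibreDimAt _ _ ≤ _ ↔ _
    rw [SyntLib.fibreDimAt_eq_localDim p ⟨Z, inferInstance⟩, hD']
    exact Nat.cast_le
  rw [hmem, hlen]
  omega

/-- The locus where `f` is a regular sequence in the fibre is open in the zero locus. -/
theorem exists_isOpen (d : ℕ)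
    (hCM : ∀ p : PrimeSpectrum R, LocCoh.IsCohenMacaulayRing (p.asIdeal.Fiber S))
    (heq : ∀ p : PrimeSpectrum R, ∀ P ∈ minimalPrimes (p.asIdeal.Fiber S),
      ringKrullDim (p.asIdeal.Fiber S ⧸ P) = (d : WithBot ℕ∞))
    (f : List S) :
    ∃ U : Set (PrimeSpectrum S), IsOpen U ∧ ∀ q : PrimeSpectrum S, Ideal.ofList f ≤ q.asIdeal →
      (q ∈ U ↔ IsRegular (EGA4.FibLocRing R S q.asIdeal) (f.map (algebraMap S (EGA4.FibLocRing R S q.asIdeal)))) := by
  let I := Ideal.ofList f
  let π : S →ₐ[R] S ⧸ I := Ideal.Quotient.mkₐ R I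
  have hπ : Function.Surjective π := Ideal.Quotient.mk_surjective
  have hce : Topology.IsClosedEmbedding (PrimeSpectrum.comap π.toRingHom) :=
    PrimeSpectrum.isClosedEmbedding_comap_of_surjective _ π.toRingHom hπ
  let G : Set (PrimeSpectrum (S ⧸ I)) := SyntLib.fibreDimLE R (S ⧸ I) (d - f.length) ∩ {_z | f.length ≤ d}
  have hG : IsOpen G := (SyntLib.isOpen_fibreDimLE R (S ⧸ I) _).inter isOpen_const
  refine ⟨(PrimeSpectrum.comap π.toRingHom '' Gᶜ)ᶜ, (hce.isClosedMap _ hG.isClosed_compl).isOpen_compl, fun q hq => ?_⟩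
  let z : PrimeSpectrum (S ⧸ I) := ⟨q.asIdeal.map (Ideal.Quotient.mk I),
    Ideal.map_isPrime_of_surjective Ideal.Quotient.mk_surjective (by rw [Ideal.mk_ker]; exact hq)⟩
  have hzq : z.asIdeal.comap π.toRingHom = q.asIdeal := by
    show (q.asIdeal.map (Ideal.Quotient.mk I)).comap (Ideal.Quotient.mk I) = _
    rw [Ideal.comap_map_of_surjective' _ Ideal.Quotient.mk_surjective, Ideal.mk_ker, sup_eq_left.2 hq]
  have hz : PrimeSpectrum.comap π.toRingHom z = q := PrimeSpectrum.ext hzq
  rw [isRegular_iff_fibreDimLE d hCM heq f π hπ Ideal.mk_ker z q.asIdeal hzq, Set.mem_compl_iff]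
  rw [← hz, hce.injective.mem_set_image, Set.mem_compl_iff, not_not]
  exact and_comm

end Groth.Agent.RegLocus
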